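import Cfsg.Agent.Lib.T3.Fac
import Cfsg.Agent.Lib.T3.Hlp
import Cfsg.Agent.Lib.S67.A
import Cfsg.Agent.Lib.PGroup.Basic

/-!
# Transfer counting, letters in a quotient, graphs over 2-groups (helper3)
-/

set_option autoImplicit false

namespace Cfsg.Lib.Y12

open Cfsg.Lib.Calc Cfsg.Lib.Grp Cfsg.Lib.T2 Cfsg.Lib.T3 Subgroup
open Cfsg.Agent.S67 (Cl fix_count)

universe u

variable {G : Type u} [Group G]

section Tr

variable [Finite G] {t : G} {K K0 : Subgroup G}

theorem four_dvd (hN : ∀ φ : G →* ℤˣ, φ t = 1) (ht : t * t = 1) (K : Subgroup G) :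
    ∃ k, K.index = Nat.card (Function.fixedPoints (fun q : G ⧸ K => t • q)) + 4 * k := by
  classical
  have := Fintype.ofFinite (G ⧸ K)
  have h1 := hN (Equiv.Perm.sign.comp (MulAction.toPermHom G (G ⧸ K)))
  set π := MulAction.toPermHom G (G ⧸ K) t with hπ
  have h2 : π ^ 2 = 1 := by rw [hπ, ← map_pow, sq, ht, map_one]
  have h3 := Equiv.Perm.sign_of_pow_two_eq_one h2
  have h4 : Equiv.Perm.sign π = 1 := h1
  rw [h4] at h3
  have h5 : Even ((Fintype.card (G ⧸ K) - Fintype.card (Function.fixedPoints π)) / 2) := by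
    by_contra h; rw [Nat.not_even_iff_odd] at h; rw [h.neg_one_pow] at h3; exact absurd h3 (by decide)
  have h6 := Equiv.Perm.two_dvd_card_support h2
  have h7 := Equiv.Perm.card_fixedPoints π
  rw [Equiv.Perm.sum_cycleType] at h7
  have h8 : π.support.card ≤ Fintype.card (G ⧸ K) := Finset.card_le_univ _
  have h9 : Nat.card (Function.fixedPoints (fun q : G ⧸ K => t • q)) = Fintype.card (Function.fixedPoints π) := by
    rw [← Nat.card_eq_fintype_card]; rfl
  rw [h9, Subgroup.index, Nat.card_eq_fintype_card]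
  obtain ⟨k, hk⟩ := h5
  obtain ⟨l, hl⟩ := h6
  exact ⟨k, by omega⟩

/-- the conjugates of `t` in `K` outside `K0` -/
def Xs (t : G) (K K0 : Subgroup G) : Set G := {v | IsConj t v ∧ v ∈ K ∧ v ∉ K0}

omit [Finite G] in
theorem cl_iff {v : G} : v ∈ Cl t ↔ IsConj t v := by rw [isConj_iff]; rfl

theorem tc (hN : ∀ φ : G →* ℤˣ, φ t = 1) (ht : t * t = 1) (hle : K0 ≤ K) (h2 : K0.relIndex K = 2) :
    2 * Nat.card K ∣ Nat.card (centralizer ({t} : Set G)) * (Xs t K K0).ncard := by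
  obtain ⟨k, hk⟩ := four_dvd hN ht K
  obtain ⟨l, hl⟩ := four_dvd hN ht K0
  have e1 := fix_count t K
  have e2 := fix_count t K0
  have e5 := relIndex_mul_index hle
  have e3 := relIndex_mul_card hle
  rw [h2] at e3 e5
  have hp : 0 < Nat.card K0 := Nat.card_pos
  have e6 : (Cl t ∩ K).ncard = (Cl t ∩ K0).ncard + (Xs t K K0).ncard := by
    rw [← Set.ncard_union_eq (Set.disjoint_left.2 fun v a b => b.2.2 a.2)]
    congr 1; ext v
    exact ⟨fun a => (em (v ∈ K0)).imp (fun b => ⟨a.1, b⟩) fun b => ⟨cl_iff.1 a.1, a.2, b⟩,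
      fun a => a.elim (fun b => ⟨b.1, hle b.2⟩) fun b => ⟨cl_iff.2 b.1, b.2.1⟩⟩
  have e0 : Nat.card (centralizer ({t} : Set G)) = {c | Agent.S67.cj c t = t}.ncard := by
    rw [Agent.S67.card_sub]; congr 1; ext c
    exact mem_centralizer_singleton_iff.trans Agent.S67.cj_eq_iff.symm
  rw [e0]
  generalize Nat.card (Function.fixedPoints (fun q : G ⧸ K => t • q)) = f at *
  generalize Nat.card (Function.fixedPoints (fun q : G ⧸ K0 => t • q)) = f0 at *
  generalize {c | Agent.S67.cj c t = t}.ncard = c at *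
  generalize (Xs t K K0).ncard = N at *
  rw [e6, mul_add, ← e2, ← e3] at e1
  rw [← e3]
  have e8 : f0 ≤ 2 * f := by
    apply Nat.le_of_mul_le_mul_left _ hp; nlinarith
  obtain ⟨d, hd⟩ := Nat.exists_eq_add_of_le e8
  have e10 : c * N = Nat.card K0 * d := by nlinarith
  obtain ⟨e, he⟩ : 4 ∣ d := ⟨l - 2 * k, by omega⟩
  exact ⟨e, by rw [e10, he]; ring⟩

omit [Finite G] in
theorem Xs.conj (h2 : K0.relIndex K = 2) {v k : G} (h : v ∈ Xs t K K0) (hk : k ∈ K) : k * v * k⁻¹ ∈ Xs t K K0 :=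
  ⟨h.1.trans (isConj_iff.2 ⟨k, rfl⟩), mul_mem (mul_mem hk h.2.1) (inv_mem hk), fun a => h.2.2 (by
    have := (normal_of_index_eq_two h2).conj_mem (⟨_, mul_mem (mul_mem hk h.2.1) (inv_mem hk)⟩ : K) a ⟨k, hk⟩⁻¹
    simpa [mem_subgroupOf, mul_assoc] using this)⟩

/-- a second conjugate in the centre -/
theorem tr_fix (hN : ∀ φ : G →* ℤˣ, φ t = 1) (S : SylC K t) (hle : K0 ≤ K) (h2 : K0.relIndex K = 2) (mt : t ∈ K)
    (nt : t ∉ K0) : ∃ v, IsConj t v ∧ v ∈ K ∧ v ≠ t ∧ ∀ k ∈ K, k * v = v * k := by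
  have a := tc hN (sq2 S.ord) hle h2
  obtain ⟨m, hm⟩ := card_dvd_of_le S.le
  have o : ¬ 2 ∣ m := fun ⟨j, e⟩ => S.nd ⟨j, by rw [hm, e]; ring⟩
  rw [hm, mul_comm 2, mul_assoc, Nat.mul_dvd_mul_iff_left Nat.card_pos] at a
  let _ : MulAction K (Xs t K K0) :=
    { smul := fun k x => ⟨k * x * (k : G)⁻¹, Xs.conj h2 x.2 k.2⟩
      one_smul := fun x => Subtype.ext (show ((1 : K) : G) * x * ((1 : K) : G)⁻¹ = x by simp)
      mul_smul := fun a b x => Subtype.ext (show ((a * b : K) : G) * x * ((a * b : K) : G)⁻¹ = a * (b * x * (b : G)⁻¹) * (a : G)⁻¹ by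
        rw [coe_mul]; group) }
  obtain ⟨b, e, f⟩ := S.two.exists_fixed_point_of_prime_dvd_card_of_fixed_point (Xs t K K0)
    ((Nat.prime_two.dvd_mul.1 a).resolve_left o) (a := ⟨t, IsConj.refl t, mt, nt⟩)
    fun k => Subtype.ext (cj_of (cms (S.le k.2)))
  exact ⟨b, b.2.1, b.2.2.1, fun h => f (Subtype.ext h.symm), fun k hk =>
    mul_inv_eq_iff_eq_mul.1 (congrArg Subtype.val (e ⟨k, hk⟩))⟩

/-- one class outside the subgroup of index 2 -/
theorem tr_one (hN : ∀ φ : G →* ℤˣ, φ t = 1) (ht : t * t = 1) (hle : K0 ≤ K) (h2 : K0.relIndex K = 2) (mt : t ∈ K)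
    (nt : t ∉ K0) (h : ∀ v, IsConj t v → v ∈ K → v ∉ K0 → ∃ k ∈ K, k * t * k⁻¹ = v) :
    2 * Nat.card (K ⊓ centralizer {t} : Subgroup G) ∣ Nat.card (centralizer ({t} : Set G)) := by
  have a := tc hN ht hle h2
  have m : t ∈ Xs t K K0 := ⟨IsConj.refl t, mt, nt⟩
  rw [Agent.S67.card_orbit K t (Set.toFinite (Xs t K K0)).toFinset (Nat.card (K ⊓ centralizer {t} : Subgroup G))
    (fun g hg => (Set.Finite.mem_toFinset _).2 (Xs.conj h2 m hg))
    (fun o ho => let b := (Set.Finite.mem_toFinset _).1 ho; h o b.1 b.2.1 b.2.2) (by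
      rw [Agent.S67.card_sub]; congr 1; ext c
      exact and_congr_right' (Agent.S67.cj_eq_iff.trans mem_centralizer_singleton_iff.symm)),
    ← Set.ncard_eq_toFinset_card, ← mul_assoc] at a
  exact Nat.dvd_of_mul_dvd_mul_right ((Set.ncard_pos).2 ⟨t, m⟩) a

end Tr

section Qt

variable {γ : ℕ → G} {Y F : Subgroup G} [(F.subgroupOf Y).Normal] (h : ∀ c, γ c ∈ Y)

variable (F) in
/-- the letters in the section `Y / F` -/
def qd (c : ℕ) : Y ⧸ F.subgroupOf Y := QuotientGroup.mk' _ (subLet h c)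

theorem qd_ev (t : W) : t.ev (qd F h) = QuotientGroup.mk' _ ⟨t.ev γ, ev_mem_of_forall h t⟩ :=
  (W.map_ev (QuotientGroup.mk' _) _ t).symm.trans (congrArg _ (Subtype.ext (coe_ev_subLet h t)))

theorem qd_one {t : W} : t.ev (qd F h) = 1 ↔ t.ev γ ∈ F := by rw [qd_ev]; exact QuotientGroup.eq_one_iff _

theorem qd_zero (h0 : γ 0 = 1) : qd F h 0 = 1 := (qd_one h (t := .l 0)).2 (Set.mem_of_eq_of_mem h0 (one_mem _))

theorem qd_rels {l : List W} (e : ∀ t ∈ l, t.ev γ ∈ F) : ∀ t ∈ l, t.ev (qd F h) = 1 := fun t a => (qd_one h).2 (e t a)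

theorem qd_map (ws : List W) : genW (qd F h) ws = ((genW γ ws).subgroupOf Y).map (QuotientGroup.mk' _) := by
  have : (genW (subLet h) ws).map Y.subtype = genW γ ws := map_genW _ _ _
  have e : (genW γ ws).subgroupOf Y = genW (subLet h) ws := this ▸ comap_map_eq_self_of_injective (subtype_injective Y) _
  rw [e, map_genW]; rfl

theorem mk_eq {a b : Y} : QuotientGroup.mk' (F.subgroupOf Y) a = QuotientGroup.mk' _ b ↔ a.1 * b.1⁻¹ ∈ F := by
  rw [← mul_inv_eq_one, ← map_inv, ← map_mul]; exact QuotientGroup.eq_one_iff _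

theorem qd_lift {ws : List W} {q : Y ⧸ F.subgroupOf Y} (m : q ∈ genW (qd F h) ws) :
    ∃ y : Y, y.1 ∈ genW γ ws ∧ QuotientGroup.mk' _ y = q := (qd_map h ws).le m

theorem qd_mem {ws : List W} {y : Y} (m : y.1 ∈ genW γ ws) : QuotientGroup.mk' _ y ∈ genW (qd F h) ws :=
  (qd_map h ws).ge ⟨y, m, rfl⟩

theorem qd_mem_iff {ws : List W} (e : F ≤ genW γ ws) {y : Y} :
    QuotientGroup.mk' _ y ∈ genW (qd F h) ws ↔ y.1 ∈ genW γ ws :=
  ⟨fun m => let ⟨x, a, b⟩ := qd_lift h m; by simpa using mul_mem (inv_mem (e (mk_eq.1 b))) a, qd_mem h⟩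

theorem qd_card {ws : List W} (e : F ≤ genW γ ws) :
    Nat.card (genW γ ws) = Nat.card (genW (qd F h) ws) * Nat.card F := by
  have l : genW γ ws ≤ Y := genW_le.2 fun t _ => ev_mem_of_forall h t
  rw [← relIndex_mul_card e, qd_map, ← relIndex_ker, QuotientGroup.ker_mk', relIndex_subgroupOf l]

end Qt

section Cen

variable {P : PM} [NeZero P.n] {γ : ℕ → G}

/-- a graph over a 2-group -/
theorem gf_of_cen (ok : P.OK) (h0 : γ 0 = 1) {k m : ℕ} {rels : List W} (hT : TB.{u} rels (P.ws k) (2 ^ m))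
    (hr : ∀ t ∈ rels, t.ev γ = 1) (l : List W) (h : ∀ t ∈ l, t.ev γ ≠ 1)
    (e : band (band (P.relsB rels) (Nat.beq (2 ^ m) (Mathieu.chSize (P.Ls k)))) (band (l.all (W.overW (P.ws k)) &&
      (l ++ P.ws k).all (avoid 40)) (P.eval (.all k 40 ((P.ws k).map fun c => (c, c)) (orEq 40 (.l 0 :: l))))) = true := by
        decide +kernel) : Gf P γ k [] := by
  simp only [band_eq_true, beq_iff, ← ok.card, Bool.and_eq_true, List.all_eq_true] at e
  have z : pr γ P.gam 0 = 1 := Prod.ext h0 ok.zero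
  have b := hT _ (pr γ P.gam) z (rels_prod hr (ok.rels e.1.1))
  have q := snd_inj b (K := P.K k) (fun _ => exists_fst) e.1.2.le
  refine ⟨ok, h0, fun p hp => ⟨fun a => ?_, q p hp⟩, nil_all⟩
  have := Nat.finite_of_card_ne_zero b.1
  have i : IsPGroup 2 (Dg P γ k) := (IsPGroup.of_card e.1.2.symm).of_injective
    (((MonoidHom.snd _ _).comp (Dg P γ k).subtype).codRestrict _ fun x => snd_mem x.2)
    ((injective_iff_map_eq_one _).2 fun x a => Subtype.ext (Prod.ext (q _ x.2 (congrArg Subtype.val a)) (congrArg Subtype.val a)))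
  have := i.isNilpotent
  by_contra n
  obtain ⟨⟨x, m, c⟩, d⟩ := ne_bot_iff_exists_ne_one.1 (PGroup.normal_inf_center_ne_bot
    ((MonoidHom.fst _ _).comp (Dg P γ k).subtype).ker (ne_bot_iff_exists_ne_one.2
      ⟨⟨⟨p, hp⟩, a⟩, fun f => n (congrArg (fun y => y.1.1.2) f)⟩))
  obtain ⟨t, i, j⟩ := orEq_iff.1 (imps_iff.1 (ok.holds e.2.2 x.1.2 (snd_mem x.2)) fun r hr => by
    obtain ⟨a, ha, rfl⟩ := List.mem_map.1 hr
    exact (congrArg (fun y => y.1.2) (mem_center_iff.1 c ⟨_, mem_pair ha⟩)).symm)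
  rw [upd_self] at j
  rcases List.mem_cons.1 i with rfl | i
  · exact d (Subtype.ext (Subtype.ext (Prod.ext m (j.trans ok.zero))))
  · rw [ev_upd (e.2.1.2 t (List.mem_append_left _ i))] at j
    have := q _ (mul_mem (ov_mem z (fun _ => mem_pair) (e.2.1.1 t i)) (inv_mem x.2)) (mul_inv_eq_one.2 j.symm)
    exact h t i ((mul_inv_eq_one.1 this).trans m)

end Cen

/-- commuting involutions generate an elementary abelian group -/
theorem sq_sup {A : Subgroup G} {a : G} (h : ∀ x ∈ A, x * x = 1) (a2 : a * a = 1) (c : A ≤ centralizer {a}) :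
    ∀ x ∈ A ⊔ zpowers a, x * x = 1 := by
  have k : ∀ x ∈ A, ∀ y ∈ A, x * y = y * x := fun x hx y hy => by
    rw [← inv_inj, mul_inv_rev, inv_eq_of_mul_eq_one_right (h _ hx), inv_eq_of_mul_eq_one_right (h _ hy),
      inv_eq_of_mul_eq_one_right (h _ (mul_mem hy hx))]
  let B : Subgroup G :=
    { carrier := {x | x ∈ A ∨ x * a ∈ A}
      one_mem' := Or.inl (one_mem _)
      mul_mem' := fun {x y} hx hy => by
        rcases hy with hy | hy
        · exact hx.imp (mul_mem · hy) fun hx => by rw [mul_assoc, cms (c hy), ← mul_assoc]; exact mul_mem hx hy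
        · refine hx.symm.imp (fun hx => ?_) fun hx => mul_assoc x y a ▸ mul_mem hx hy
          have := mul_mem hx hy
          rwa [mul_assoc, ← cms (c hy), mul_assoc y, a2, mul_one] at this
      inv_mem' := fun {x} hx => hx.imp inv_mem fun hx => by
        have := inv_mem hx
        rwa [mul_inv_rev, inv_eq_of_mul_eq_one_right a2, show a * x⁻¹ = x⁻¹ * a from (Commute.inv_right (show a * x = x * a by
          rw [← mul_left_inj a, mul_assoc, ← cms (c hx)])).eq] at this }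
  intro x hx
  rcases (sup_le (fun _ => Or.inl) (zpowers_le.2 (Or.inr (Set.mem_of_eq_of_mem a2 (one_mem _)))) : _ ≤ B) hx with m | m
  · exact h x m
  · have := h _ m
    rwa [mul_assoc, ← cms (c m), mul_assoc x, a2, mul_one] at this

theorem card_sup [Finite G] {A H : Subgroup G} {a : G} {n : ℕ} (h : n ≤ Nat.card A) (l : A ≤ H) (m : a ∉ H) :
    2 * n ≤ Nat.card (A ⊔ zpowers a : Subgroup G) := by
  rw [← relIndex_mul_card (le_sup_left : A ≤ A ⊔ zpowers a)]
  refine Nat.mul_le_mul ?_ h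
  have a0 : A.relIndex (A ⊔ zpowers a) ≠ 0 := index_ne_zero_of_finite
  have a1 : A.relIndex (A ⊔ zpowers a) ≠ 1 := fun e => m (l (relIndex_eq_one.1 e (mem_sup_right (mem_zpowers a))))
  omega

/-- elements of an abelian normal Sylow subgroup -/
theorem uu_of_cn {M : Subgroup G} {i w : G} (u : UU M i) (mi : i ∈ M) (w2 : w * w = 1)
    (hE : ∀ x ∈ M, x * x = 1 → x * i = i * x) (hC : ∀ c, c * w = w * c → c ∈ M) : UU M w := by
  have key : ∀ g : G, w • (g : G ⧸ M) = g → (g : G ⧸ M) = (1 : G) := fun g e => by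
    have a := hE _ (smul_mk_iff.1 e) (by rw [← inv_inv g, inv_inv g⁻¹, conj_mul, w2, mul_one, mul_inv_cancel])
    have b := hC (g * i * g⁻¹) (by
      calc _ = g * (i * (g⁻¹ * w * g)) * g⁻¹ := by group
        _ = _ := by rw [← a]; group)
    have c := QuotientGroup.eq.1 (u (g⁻¹ : G) trivial (1 : G) trivial (smul_mk_iff.2 (by rwa [inv_inv])) (smul_one_iff.2 mi))
    exact QuotientGroup.eq.2 (by simpa using c)
  intro α _ β _ a b
  obtain ⟨g, rfl⟩ := QuotientGroup.mk_surjective α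
  obtain ⟨g', rfl⟩ := QuotientGroup.mk_surjective β
  rw [key g a, key g' b]

theorem mem_of_uu {M : Subgroup G} {i c : G} (u : UU M i) (mi : i ∈ M) (h : c * i * c⁻¹ ∈ M) : c ∈ M := by
  simpa using QuotientGroup.eq.1 (u (c⁻¹ : G) trivial (1 : G) trivial (smul_mk_iff.2 (by rwa [inv_inv])) (smul_one_iff.2 mi))

theorem TB.sub {rels gens : List W} {m : ℕ} (h : TB.{u} rels gens m) (labs : List W) (e : labW labs 0 = .l 0 := by rfl) :
    TB.{u} (rels.map (W.subst labs)) (gens.map (W.subst labs)) m := fun X _ δ h0 hr =>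
  genW_newLet δ labs gens ▸ h X (newLet δ labs) (by rw [newLet, e]; exact h0) (rels_newLet hr)

end Cfsg.Lib.Y12
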