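import Cfsg.Agent.Lib.Y12.W
import Cfsg.Agent.Lib.Y12.MD

/-! An involution with centraliser `2 × M₁₂`: the normaliser of a four-group (helper3). -/

set_option autoImplicit false
set_option maxRecDepth 100000

namespace Cfsg.Lib.Y12

open Cfsg.Lib.Calc Cfsg.Lib.Grp Cfsg.Lib.T2 Cfsg.Lib.T3 Subgroup

variable {G : Type*} [Group G] {γ : ℕ → G}

/-- the word `w` -/
abbrev wW : W := .mul (.mul (.l 2) (.l 3)) (.l 2)
/-- the word `z` -/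
abbrev zW : W := .pow (.mul (.l 3) wW) 2
/-- the word `u` -/
abbrev uW : W := .pow (.mul (.l 4) wW) 2

theorem gt {l : List W} {p : W → Prop} (h : ∀ t ∈ l, p t) (i : ℕ) (e : i < l.length := by decide) : p (l.getD i (.l 0)) :=
  h _ (by rw [List.getD_eq_getElem _ _ e]; exact List.getElem_mem _)

theorem twist {P : PM} [NeZero P.n] {k : ℕ} {N : List W} (g : Gf P γ k N) (labs : List W) (o : W)
    (e : allP (P.ws k) (fun t => band (av (P.ws k) N (t.subst labs)) (P.eval (.eq (cj o t) (t.subst labs)))) = true := by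
      decide +kernel) (h0 : Calc.labW labs 0 = .l 0 := by rfl) : Gf P (newLet γ labs) k [] := by
  refine ⟨g.ok, by rw [newLet, h0]; exact g.zero, fun p hp => ?_, nil_all⟩
  have m := pair_genW_le (Δ := (Dg P γ k).comap ((MonoidHom.id G).prodMap (MulAut.conj (o.ev P.gam)).toMonoidHom))
    (fun t ht => by
      have a := band_eq_true.1 (allP_iff.1 e t ht)
      have b := g.cx.av a.1
      rwa [W.ev_subst, ← show (cj o t).ev P.gam = _ from g.ok.holds (φ := .eq _ _) a.2] at b) hp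
  exact (g.inj _ m).trans (map_eq_one_iff _ (MulAut.conj _).injective)

theorem JC.twist [Finite G] (J : JC γ) : JC (newLet γ labT) :=
  have g := Y12.twist J.g labT (.l 10)
  ⟨g, (eq_of_le_of_card_ge ((genW_newLet _ _ _).le.trans (ov_le J.g.zero))
    ((J.g.card 1 (n := 190080)).trans (g.card 1).symm).le).trans J.c⟩

/-- the second case -/
structure JX (γ : ℕ → G) : Prop extends JF γ where
  v : MulAut.conj (γ 7) (γ 3) = γ 3 * zz γ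

/-- the second case, normalised -/
structure JD (γ : ℕ → G) : Prop extends JX γ where
  x : ∀ t ∈ relC02x, t.ev γ = 1

theorem extC {δ : ℕ → G} (g : Gf NE δ 2 [.l 8, .l 7, .l 2, .l 3, .l 5])
    (h : ∀ t ∈ relK ++ relF ++ relC ++ relC02x, t.ev δ = 1) : Gf NE δ 0 [] :=
  g.ext 0 [.l 0, .l 1, .l 2, .l 3, .l 4, .l 5, .l 0, .l 7, .l 8] tcC02_tb
    (List.forall_mem_append.2 ⟨g.mem_of_rels h, fun _ => mem_pair⟩)

namespace JX

variable (J : JX γ)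
include J

theorem w : MulAut.conj (γ 7) (ww γ) = ww γ * zz γ := by rw [map_mul, map_mul, J.s.t, J.v]; exact J.g.eq

theorem rC : ∀ t ∈ relK ++ relF ++ relC, t.ev γ = 1 := rels_append J.rF (rc (mul_inv_eq_one.2 J.v)
  (rc (mul_inv_eq_one.2 (J.cg J.g.eq J.w J.g.eq)) (rc (mul_inv_eq_one.2 (J.cg J.g.eq J.v J.g.eq)) nil_all)))

variable [Finite G]

theorem gB : Gf N0 γ 2 [.l 8, .l 7, .l 6, .l 2] :=
  addN ((((Gf.of_tb N0_ok J.g.zero (k := 1) tcT_tb J.g.rels J.cT).sub 2 [.l 2]).cons₂ J.g (.l 6) [.l 1, wW, .l 3, .l 4]).cons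
    (.l 7) [.mul (.l 1) zW, .mul (.l 3) zW, .l 4, .mul wW zW] (.cons J.s.e (.cons J.v (.cons J.s.p (.cons J.w .nil)))))
    (.l 8) (cj (.l 6) (.l 7)) J.g8

theorem gE : Gf NE γ 2 [.l 8, .l 7, .l 2, .l 3, .l 5] :=
  (((Gf.of_tb NE_ok J.g.zero (k := 1) tcK_tb J.g.rels J.cK).sub 2 [.l 2, .l 3, .l 5]).cons₂ J.gB (.l 7)
    [.mul (.l 1) zW, zW, uW, .l 4]).cons₂ J.gB (.l 8) [.mul (.l 1) uW, zW, uW, .mul (.l 4) uW]

theorem x0 : (∀ t ∈ relC02x, t.ev γ = 1) ∨ ∀ t ∈ relC03x, t.ev γ = 1 := by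
  have B := J.gB
  have E := J.gE
  have z := J.g.zero
  have m : ∀ t ∈ C.ws 12, t.ev γ ∈ genW γ (C.ws 12) := fun _ => mem_genW _
  have a := (N0_x0 B :) _ (J.mB (d := (γ 7 * γ 6) ^ 3) B.eq B.eq B.eq) (pw_comm _ _) B.eq B.eq B.eq
  have b := (NE_x E :) _ (J.mE (d := ((γ 5)⁻¹ * (γ 1 * γ 3 * hh γ)) ^ 3) E.eq E.eq E.eq E.eq) (pw_comm _ _)
  rw [← J.fs3] at a
  rw [← z] at b
  rcases a with a | a <;> rcases b with b | b | b | b
  · exact (J.col (tcC00_in z (rels_append J.rC (r2 a b)) m)).elim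
  · exact (J.col (tcC01_in z (rels_append J.rC (r2 a b)) m)).elim
  · exact Or.inl (r2 a b)
  · exact Or.inr (r2 a b)
  · exact (J.col (tcC10_in z (rels_append J.rC (r2 a b)) m)).elim
  · exact (J.col (tcC11_in z (rels_append J.rC (r2 a b)) m)).elim
  · exact (J.col (tcC12_in z (rels_append J.rC (r2 a b)) m)).elim
  · exact (J.col (tcC13_in z (rels_append J.rC (r2 a b)) m)).elim

theorem exD : ∃ δ : ℕ → G, JD δ ∧ δ 1 = γ 1 := by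
  refine J.x0.elim (fun a => ⟨γ, ⟨J, a⟩, rfl⟩) fun a => ?_
  have E := J.gE
  have b := extC (E.upd_mul (x := zz γ) (mem_centralizer_iff.2 fun _ m => E.comm m))
    (rels_rep E 8 (.mul zW (.l 8)) (rels_append J.rC a))
  have c := rels_newLet (b.rels (l := (relZ ++ relC02x).map (W.subst labT)))
  exact ⟨_, ⟨⟨⟨(J.upd 8 _).twist, ⟨⟨mul_inv_eq_one.1 (gt c 0), mul_inv_eq_one.1 (gt c 1)⟩, mul_inv_eq_one.1 (gt c 2),
    mul_inv_eq_one.1 (gt c 3), mul_inv_eq_one.1 (gt c 4), Or.inr (mul_inv_eq_one.1 (gt c 5))⟩, J.f2,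
    show zz γ * (zz γ * γ 8) = γ 6 * γ 7 * (γ 6)⁻¹ by rw [← mul_assoc, (J.g.eq : zz γ * zz γ = 1), one_mul, J.g8]⟩,
    mul_inv_eq_one.1 (gt c 5)⟩, fun t m => c t (List.mem_append_right _ m)⟩, rfl⟩

end JX

/-- the letter `y` -/
structure J0 (γ : ℕ → G) : Prop extends JD γ where
  g0 : Gf N0 γ 0 []
  y : γ 9 = yy γ ∨ γ 9 = zz γ * yy γ

theorem extY {δ : ℕ → G} (g : Gf N0 δ 4 [.l 9, .l 2, .l 6]) (c : Gf C δ 1 []) (h : ∀ t ∈ relY1, t.ev δ = 1) : Gf N0 δ 0 [] :=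
  g.ext 0 [.l 0, .l 0, .l 2, .l 0, .l 0, .l 0, .l 6, .l 0, .l 0, .l 9] tcY_tb (List.forall_mem_append.2
    ⟨g.mem_of_rels (l := relY.take 5) (rels_append (c.rels (l := relY.take 3)) fun t m => h t (List.mem_of_mem_take (i := 2) m)),
      rc (g.mem_of_eq (mul_inv_eq_one.1 (gt h 2))) (rc (g.mem_of_eq (mul_inv_eq_one.1 (gt h 3))) nil_all)⟩)

namespace JD

variable (J : JD γ)
include J

theorem upd (x : G) : JD (T2.upd γ 9 x) :=
  ⟨⟨⟨J.toJC.upd 9 x, ⟨⟨J.s.e, J.s.z⟩, J.s.t, J.s.p, J.s.r, J.s.v⟩, J.f2, J.g8⟩, J.v⟩, rels_upd J.x (by decide +kernel)⟩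

variable [Finite G]

theorem gNE : Gf NE γ 0 [] := extC J.gE (rels_append J.rC J.x)

theorem gN : Gf N0 γ 3 [] :=
  J.gB.ext 3 [.l 0, .l 1, .l 2, .l 3, .l 4, .l 0, .l 6, .l 7, .l 8] tcN_tb (List.forall_mem_append.2 ⟨List.forall_mem_append.2
    ⟨J.gB.mem_of_rels J.g.rels, List.forall_mem_append.2 ⟨J.gB.mem_of_rels (l := relN.take 6)
      (rc J.g.eq (rc J.g.eq (rc J.g.eq (rc J.f2 (rc J.g2 (rc (mul_inv_eq_one.2 J.s.t) nil_all)))))),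
      rc (J.gB.mem_of_eq (t := .pow (.mul (.l 7) (.l 6)) 3) (s := .mul (.mul (.mul (.l 1) wW) (.l 3)) (.l 4)) (J.fs3.symm.trans (mul_inv_eq_one.1 (gt J.x 0))))
        (J.gB.mem_of_rels (l := relN.drop 7) (rc (mul_inv_eq_one.2 J.g8) nil_all))⟩⟩, fun _ => mem_pair⟩)

theorem ex0 (h : γ 9 = yy γ) : ∃ δ : ℕ → G, J0 δ ∧ δ 1 = γ 1 := by
  have N := J.gNE
  have E : Gf N0 γ 4 [.l 9, .l 2, .l 6] := (J.gN.sub 4 [.l 2, .l 6]).cons₂
    (addN N (.l 9) (cj (.l 5) (.mul (.mul (.l 1) (.l 3)) (.mul (.mul (.l 2) (.l 8)) (.l 2)))) h) (.l 9)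
    [.mul (.l 1) (.l 4), .mul (.mul (.mul (.mul (.mul (.l 1) (.l 3)) (.l 4)) wW) (.l 7)) (.l 8), .l 4, .l 8,
      .mul (.mul (.l 4) zW) (.l 7), wW]
  have a : γ 9 * γ 9 = 1 := by rw [h]; exact N.eq
  have b := (N0_ys E :) _ (J.mB (d := (γ 9 * γ 6) ^ 6) E.eq E.eq E.eq) (pw_comm _ _) E.eq E.eq E.eq
  have c : (γ 2 * γ 9) ^ 2 * (γ 4 * zz γ)⁻¹ = 1 := by rw [h]; exact N.eq
  rcases (N0_yts E :) _ (J.mB (d := (γ 9 * γ 2 * γ 6) ^ 6 * (γ 4 * ww γ * γ 8)⁻¹) E.eq E.eq E.eq) E.eq E.eq E.eq E.eq with d | d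
  · exact ⟨γ, ⟨J, extY E J.g (rc a (rc b (rc c (rc d nil_all)))), Or.inl h⟩, rfl⟩
  · exact ⟨T2.upd γ 9 (zz γ * γ 9), ⟨J.upd _, extY (E.upd_mul (mem_centralizer_iff.2 fun _ m => E.comm m)) (J.upd _).g
      (rels_rep E 9 (.mul zW (.l 9)) (l := relY2) (rc a (rc b (rc c (rc (mul_inv_eq_one.2 d) nil_all))))),
      Or.inr (congrArg (zz γ * ·) h)⟩, rfl⟩

end JD

theorem JC.ex [Finite G] (J : JC γ) (hN : ∀ φ : G →* ℤˣ, φ (γ 1) = 1) : ∃ δ : ℕ → G, J0 δ ∧ δ 1 = γ 1 := by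
  obtain ⟨δ, J, e⟩ := J.exF hN
  rw [← e] at hN ⊢
  obtain ⟨δ, J, e⟩ := JX.exD ⟨J, J.s.v.resolve_left fun v => JW.false ⟨J, v⟩ hN⟩
  exact e ▸ (J.upd (yy δ)).ex0 rfl

end Cfsg.Lib.Y12
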