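import Cfsg.Agent.Lib.Y12.A
import Cfsg.Agent.Lib.Y12.MW

/-! An involution with centraliser `2 × M₁₂`: local structure in the wreathed case (helper3). -/

set_option autoImplicit false
set_option maxRecDepth 100000

namespace Cfsg.Lib.Y12

open Cfsg.Lib.Calc Cfsg.Lib.Grp Cfsg.Lib.T2 Cfsg.Lib.T3 Subgroup

variable {G : Type*} [Group G] {γ : ℕ → G}

/-- a letter is replaced by a word -/
def rep (v : ℕ) (s : W) : W → W
  | .l c => bif Nat.beq c v then s else .l c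
  | .mul a b => .mul (rep v s a) (rep v s b)
  | .pow a k => .pow (rep v s a) k
  | .inv a => .inv (rep v s a)

theorem ev_rep (v : ℕ) (s t : W) : (rep v s t).ev γ = t.ev (upd γ v (s.ev γ)) := by
  induction t with
  | l c =>
    rw [rep, ev_l]
    cases e : Nat.beq c v
    · exact (upd_of_ne γ _ (Nat.ne_of_beq_eq_false e)).symm
    · rw [Nat.eq_of_beq_eq_true e, upd_self]; rfl
  | mul a b i j => exact congrArg₂ (· * ·) i j
  | pow a k i => exact congrArg (· ^ k) i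
  | inv a i => exact congrArg (·⁻¹) i

section Gf

variable {P : PM} [NeZero P.n] {k : ℕ} {N : List W} (g : Gf P γ k N)
include g

theorem addN (t s : W) (h : t.ev γ = s.ev γ) (e : band (s.overW (P.ws k ++ N)) (P.eval (.eq t s)) = true := by decide +kernel) :
    Gf P γ k (t :: N) :=
  ⟨g.ok, g.zero, g.inj, List.forall_mem_cons.2 ⟨by
    rw [h, show t.ev P.gam = s.ev P.gam from g.ok.holds (φ := .eq t s) (band_eq_true.1 e).2]
    exact g.cx.ov (band_eq_true.1 e).1, g.inN⟩⟩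

theorem rels_rep (v : ℕ) (s : W) {l l' : List W} (h : ∀ t ∈ l, t.ev γ = 1) (e : band (Nat.beq l'.length l.length)
    (allP (l'.zip l) fun p => tv P k N (.eq (rep v s p.1) p.2)) = true := by decide +kernel) :
    ∀ t ∈ l', t.ev (upd γ v (s.ev γ)) = 1 := fun t ht => by
  rw [band_eq_true, allP_iff, beq_iff] at e
  obtain ⟨b, m, -⟩ := forall₂_zip (R := fun _ _ => True) (List.forall₂_iff_zip.2 ⟨e.1, fun _ => trivial⟩) t ht
  exact (ev_rep v s t).symm.trans ((g.tr (e.2 _ m)).trans (h b (List.of_mem_zip m).2))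

theorem rels_unrep (v : ℕ) (s : W) {l l' : List W} (h : ∀ t ∈ l, t.ev (upd γ v (s.ev γ)) = 1)
    (e : band (Nat.beq l'.length l.length) (allP (l'.zip l) fun p => tv P k N (.eq p.1 (rep v s p.2))) = true := by
      decide +kernel) : ∀ t ∈ l', t.ev γ = 1 := fun t ht => by
  rw [band_eq_true, allP_iff, beq_iff] at e
  obtain ⟨b, m, -⟩ := forall₂_zip (R := fun _ _ => True) (List.forall₂_iff_zip.2 ⟨e.1, fun _ => trivial⟩) t ht
  exact (g.tr (e.2 _ m)).trans ((ev_rep v s b).trans (h b (List.of_mem_zip m).2))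

end Gf

theorem rc {a : W} {l : List W} {p : W → Prop} (h : p a) (h' : ∀ t ∈ l, p t) : ∀ t ∈ a :: l, p t :=
  List.forall_mem_cons.2 ⟨h, h'⟩

theorem r2 {a b c d : W} (h : a.ev γ = b.ev γ) (h' : c.ev γ = d.ev γ) :
    ∀ t ∈ [W.mul a (.inv b), .mul c (.inv d)], t.ev γ = 1 := rc (mul_inv_eq_one.2 h) (rc (mul_inv_eq_one.2 h') nil_all)

/-- the letters `f` and `g` -/
structure JF (γ : ℕ → G) : Prop extends JC γ where
  s : S1 γ (γ 7)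
  f2 : γ 7 * γ 7 = 1
  g8 : γ 8 = γ 6 * γ 7 * (γ 6)⁻¹

theorem JC.exF [Finite G] (J : JC γ) (hN : ∀ φ : G →* ℤˣ, φ (γ 1) = 1) : ∃ δ : ℕ → G, JF δ ∧ δ 1 = γ 1 := by
  obtain ⟨g, S⟩ := J.ex0 hN
  obtain ⟨g, S⟩ := J.ex1 S
  obtain ⟨g, S, e⟩ := J.ex2 S
  exact ⟨T2.upd (T2.upd γ 7 g) 8 (γ 6 * g * (γ 6)⁻¹), ⟨(J.upd 7 g).upd 8 _, ⟨⟨S.e, S.z⟩, S.t, S.p, S.r, S.v⟩, e, rfl⟩, rfl⟩

namespace JF

variable (J : JF γ)
include J

theorem cg {x y y' x' : G} (a : γ 6 * y * (γ 6)⁻¹ = x) (b : MulAut.conj (γ 7) y = y') (c : γ 6 * y' * (γ 6)⁻¹ = x') :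
    γ 8 * x * (γ 8)⁻¹ = x' := by rw [← a, ← c, ← b, J.g8, MulAut.conj_apply]; group

theorem g2 : γ 8 * γ 8 = 1 := by rw [J.g8, conj_mul, J.f2, mul_one, mul_inv_cancel]

theorem rF : ∀ t ∈ relK ++ relF, t.ev γ = 1 := rels_append J.g.rels (rc J.f2 (rc J.g2 (rc (mul_inv_eq_one.2 J.s.t)
  (rc (mul_inv_eq_one.2 J.s.p) (rc (mul_inv_eq_one.2 J.s.r) (rc (mul_inv_eq_one.2 J.s.e)
    (rc (mul_inv_eq_one.2 (J.cg J.g.eq J.s.e J.g.eq)) (rc (mul_inv_eq_one.2 (J.cg J.g.eq J.s.p J.g.eq)) nil_all))))))))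

theorem fs3 : γ 7 * γ 8 * hh γ = (γ 7 * γ 6) ^ 3 := by
  have a : γ 2 * γ 6 = (γ 6)⁻¹ * γ 2 := J.g.eq
  have b : (γ 6)⁻¹ * γ 2 = γ 2 * γ 6 := J.g.eq
  have c : γ 6 = (γ 6)⁻¹ * (γ 6)⁻¹ := J.g.eq
  calc _ = γ 7 * γ 6 * γ 7 * (γ 6)⁻¹ * (γ 2 * γ 6) * γ 7 * ((γ 6)⁻¹ * γ 2) := by rw [hh, J.g8]; group
    _ = γ 7 * γ 6 * γ 7 * (γ 6)⁻¹ * ((γ 6)⁻¹ * γ 2) * γ 7 * (γ 2 * γ 6) := congrArg₂ (fun x y => _ * x * _ * y) a b
    _ = γ 7 * γ 6 * γ 7 * ((γ 6)⁻¹ * (γ 6)⁻¹) * (γ 2 * γ 7) * γ 2 * γ 6 := by group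
    _ = _ := by rw [← c, ← cmm J.s.t, mul_assoc _ (γ 7 * γ 2), mul_assoc (γ 7) (γ 2), (J.g.eq : γ 2 * γ 2 = 1), pow_three]; group

theorem col {l : List W} (h : ∀ t ∈ l, t.ev γ ∈ genW γ (C.ws 12)) (e : l = [.pow (.mul (.l 3) (.mul (.mul (.l 2) (.l 3)) (.l 2))) 2] :=
    by rfl) : False := (J.g.nmem : zz γ ∉ _) (h _ (e ▸ List.mem_cons_self))

theorem cT : 128 ≤ Nat.card (genW γ (C.ws 4)) := (J.g.card 4).ge

theorem cK : 384 ≤ Nat.card (genW γ (C.ws 3)) := (J.g.card 3).ge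

end JF

/-- the wreathed case -/
structure JW (γ : ℕ → G) : Prop extends JF γ where
  v : MulAut.conj (γ 7) (γ 3) = γ 3

namespace JW

variable (J : JW γ)
include J

theorem w : MulAut.conj (γ 7) (ww γ) = ww γ := by rw [map_mul, map_mul, J.s.t, J.v]

theorem rW : ∀ t ∈ relK ++ relF ++ relW, t.ev γ = 1 := rels_append J.rF (rc (mul_inv_eq_one.2 J.v)
  (rc (mul_inv_eq_one.2 (J.cg J.g.eq J.w J.g.eq)) (rc (mul_inv_eq_one.2 (J.cg J.g.eq J.v J.g.eq)) nil_all)))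

variable [Finite G]

theorem gB : Gf Ws γ 2 [.l 8, .l 7, .l 6, .l 2] :=
  addN ((((Gf.of_tb Ws_ok J.g.zero (k := 1) tcT_tb J.g.rels J.cT).sub 2 [.l 2]).cons₂ J.g (.l 6)
    [.l 1, .mul (.mul (.l 2) (.l 3)) (.l 2), .l 3, .l 4]).cons (.l 7)
      [.mul (.l 1) (.pow (.mul (.l 3) (.mul (.mul (.l 2) (.l 3)) (.l 2))) 2), .l 3, .l 4, .mul (.mul (.l 2) (.l 3)) (.l 2)]
      (.cons J.s.e (.cons J.v (.cons J.s.p (.cons J.w .nil))))) (.l 8) (cj (.l 6) (.l 7)) J.g8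

theorem gE : Gf Wr γ 2 [.l 8, .l 7, .l 2, .l 3, .l 5] :=
  (((Gf.of_tb Wr_ok J.g.zero (k := 1) tcK_tb J.g.rels J.cK).sub 2 [.l 2, .l 3, .l 5]).cons₂ J.gB (.l 7)
    (.mul (.l 1) (.pow (.mul (.l 3) (.mul (.mul (.l 2) (.l 3)) (.l 2))) 2) :: (C.ws 7).tail)).cons₂ J.gB (.l 8)
    (.mul (.l 1) (.pow (.mul (.l 4) (.mul (.mul (.l 2) (.l 3)) (.l 2))) 2) :: (C.ws 7).tail)

theorem x0 : (∀ t ∈ relW00x, t.ev γ = 1) ∨ ∀ t ∈ relW01x, t.ev γ = 1 := by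
  have B := J.gB
  have E := J.gE
  have z := J.g.zero
  have m : ∀ t ∈ C.ws 12, t.ev γ ∈ genW γ (C.ws 12) := fun _ => mem_genW _
  have a := (Ws_x0 B :) _ (J.mB (d := (γ 7 * γ 6) ^ 3) B.eq B.eq B.eq) (pw_comm _ _) B.eq B.eq B.eq
  have b := (Wr_x E :) _ (J.mE (d := ((γ 5)⁻¹ * hh γ) ^ 3) E.eq E.eq E.eq E.eq) (pw_comm _ _)
  rw [← J.fs3, ← z] at a
  rw [← z] at b
  rcases a with a | a <;> rcases b with b | b | b | b
  · exact Or.inl (r2 a b)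
  · exact Or.inr (r2 a b)
  · exact (J.col (tcW02_in z (rels_append J.rW (r2 a b)) m)).elim
  · exact (J.col (tcW03_in z (rels_append J.rW (r2 a b)) m)).elim
  · exact (J.col (tcW10_in z (rels_append J.rW (r2 a b)) m)).elim
  · exact (J.col (tcW11_in z (rels_append J.rW (r2 a b)) m)).elim
  · exact (J.col (tcW12_in z (rels_append J.rW (r2 a b)) m)).elim
  · exact (J.col (tcW13_in z (rels_append J.rW (r2 a b)) m)).elim

end JW

theorem extW {δ : ℕ → G} (g : Gf Wr δ 2 [.l 8, .l 7, .l 2, .l 3, .l 5]) (h : ∀ t ∈ relK ++ relF ++ relW ++ relW00x, t.ev δ = 1) :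
    ∀ t ∈ relD, t.ev δ = 1 :=
  (g.ext 0 [.l 0, .l 1, .l 2, .l 3, .l 4, .l 5, .l 0, .l 7, .l 8] tcW00_tb
    (List.forall_mem_append.2 ⟨g.mem_of_rels h, fun _ => mem_pair⟩)).rels

/-- the word for `r h r⁻¹` -/
abbrev dd (γ : ℕ → G) : G := γ 5 * hh γ * (γ 5)⁻¹

namespace JW

variable [Finite G] (J : JW γ)
include J

theorem x1 : γ 7 * γ 8 * hh γ = 1 := (J.x0.elim (fun h => h _ List.mem_cons_self) fun h => h _ List.mem_cons_self :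
  γ 7 * γ 8 * hh γ * (γ 0)⁻¹ = 1).symm ▸ by rw [J.g.zero, inv_one, mul_one]

theorem gN : Gf Ws γ 0 [] :=
  J.gB.ext 0 [.l 0, .l 1, .l 2, .l 3, .l 4, .l 0, .l 6, .l 7, .l 8] tcN_tb (List.forall_mem_append.2 ⟨J.gB.mem_of_rels
    (rels_append J.g.rels (rc J.g.eq (rc J.g.eq (rc J.g.eq (rc J.f2 (rc J.g2 (rc (mul_inv_eq_one.2 J.s.t) (rc (J.fs3.symm.trans J.x1)
      (rc (mul_inv_eq_one.2 J.g8) nil_all))))))))), fun _ => mem_pair⟩)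

theorem rD : (∀ t ∈ relD.take 8, t.ev γ = 1) ∧ dd γ * γ 3 * (dd γ)⁻¹ * (γ 3)⁻¹ ∈ genW γ (Ws.ws 3) := by
  have E := J.gE
  have N := J.gN
  rcases J.x0 with a | a
  · have b := extW E (rels_append J.rW a)
    exact ⟨fun t m => b t (List.mem_of_mem_take m), Set.mem_of_eq_of_mem (mul_inv_eq_one.1 (b _ (List.getLast_mem (by decide))))
      (N.mem (x := hh γ))⟩
  · have b := extW (E.upd_mul (x := zz γ) (mem_centralizer_iff.2 fun _ m => E.comm m))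
      (rels_rep E 8 (.mul (.pow (.mul (.l 3) (.mul (.mul (.l 2) (.l 3)) (.l 2))) 2) (.l 8)) (rels_append J.rW a))
    have c := rels_unrep E 8 (.mul (.pow (.mul (.l 3) (.mul (.mul (.l 2) (.l 3)) (.l 2))) 2) (.l 8)) b (l' := relD.take 8 ++
      [.mul (relD.getD 8 (.l 0)) (.pow (.mul (.l 3) (.mul (.mul (.l 2) (.l 3)) (.l 2))) 2)])
    have d : dd γ * γ 3 * (dd γ)⁻¹ * (γ 3)⁻¹ * (hh γ)⁻¹ * zz γ = 1 := c _ (List.mem_append_right _ List.mem_cons_self)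
    rw [mul_eq_one_iff_eq_inv, mul_inv_eq_iff_eq_mul] at d
    exact ⟨fun t m => c t (List.mem_append_left _ m), d ▸ N.mem⟩

end JW

end Cfsg.Lib.Y12
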