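import Cfsg.Agent.Lib.Y12.MC

/-! An involution with centraliser `2 × M₁₂`: the first fusion (helper3). -/

set_option autoImplicit false
set_option maxRecDepth 100000
set_option linter.unusedSimpArgs false

namespace Cfsg.Lib.Y12

open Cfsg.Lib.Calc Cfsg.Lib.Grp Cfsg.Lib.T2 Cfsg.Lib.T3 Subgroup

variable {G : Type*} [Group G] {γ : ℕ → G} {g : G}

theorem m24_equiv : Nonempty (m24.K 0 ≃* Spor.M12) := by
  have a : ∀ c, ∃ g ∈ Mathieu.m12, Rep 24 5 Golay.G.pt g (m24.env c) := fun c => (m24.env_cases c).elim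
    (fun e => ⟨1, one_mem _, e ▸ Rep.one (by decide)⟩) (Mathieu.mem12.list (l := m24.E) (by decide +kernel) _)
  choose μ m hμ using a
  have I : IsoW m24.gam μ := m24_ok.isoW_of_rep Mathieu.inj_pt Mathieu.faithful_M24 hμ
  obtain ⟨e, -⟩ := I.exists_equiv (m24.ws 0)
  exact ⟨e.trans ((MulEquiv.subgroupCongr (eq_of_le_of_card_ge (genW_le.2 fun t _ => ev_mem_of_forall m t)
    (Mathieu.card_m12.trans ((I.card_eq _).symm.trans ((m24_ok.card 0).trans (by decide +kernel))).symm).le)).trans Mathieu.eM12)⟩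

theorem gC : Gf C C.gam 0 [] := Gf.of_isoW C_ok (fun _ => Iff.rfl) 0

theorem M_equiv : Nonempty (Spor.M12 ≃* C.K 2) := by
  have q : QuoW (newLet C.gam [.l 0, .l 0, .l 2, .l 3, .l 4, .l 5, .l 6]) m24.gam :=
    quoW_res (π := fun j => j) (κ := fun j => j) C_ok (.of_ok m24_ok) (by decide +kernel)
  have a := genW_fix (γ := C.gam) (labs := [.l 0, .l 0, .l 2, .l 3, .l 4, .l 5, .l 6]) (ts := C.ws 2) (by decide +kernel)
  obtain ⟨e, -⟩ := (q.iso_of_card (ts := C.ws 2) (fun c => a.ge (T2.newLet_mem C_ok.zero (by decide +kernel) c)) (by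
    rw [a, gC.card 2 (n := 95040)]; exact ((m24_ok.card 0).trans (by decide +kernel)).ge)).exists_equiv (C.ws 2)
  obtain ⟨f⟩ := m24_equiv
  exact ⟨f.symm.trans (e.symm.trans (MulEquiv.subgroupCongr a))⟩

theorem C_equiv : Nonempty (C.K 1 ≃* Multiplicative (ZMod 2) × Spor.M12) := by
  obtain ⟨e⟩ := M_equiv
  have c2 : Nat.card (Multiplicative (ZMod 2)) = 2 := Nat.card_zmod 2
  let i : Multiplicative (ZMod 2) ≃* zpowers (C.gam 1) := mulEquivOfPrimeCardEq c2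
    ((Nat.card_zpowers _).trans (orderOf_eq_prime (gC.eq (x := C.gam 1 ^ 2)) gC.ne))
  let f := MonoidHom.noncommCoprod ((zpowers _).subtype.comp i.toMonoidHom) ((C.K 2).subtype.comp e.toMonoidHom)
    fun a b => (show Commute ((e b : C.K 2) : Equiv.Perm (Fin C.n)) (i a) from let ⟨k, h⟩ := (i a).2
      h ▸ Commute.zpow_right (gC.comm (x := C.gam 1) (j := 2) (e b).2) k).symm
  have r : f.range = C.K 1 := by
    refine (MonoidHom.noncommCoprod_range _ _ _).trans ?_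
    rw [MonoidHom.range_comp, MonoidHom.range_comp, MonoidHom.range_eq_top.2 i.surjective,
      MonoidHom.range_eq_top.2 e.surjective, ← MonoidHom.range_eq_map, ← MonoidHom.range_eq_map, range_subtype, range_subtype]
    exact le_antisymm (sup_le (zpowers_le.2 gC.mem) gC.le) (genW_le.2 (List.forall_mem_cons.2
      ⟨mem_sup_left (mem_zpowers _), fun t ht => mem_sup_right (mem_genW _ ht)⟩))
  have := Nat.finite_of_card_ne_zero (Mathieu.card_M12.trans_ne (by decide))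
  exact ⟨((MulEquiv.ofBijective f.rangeRestrict ((Nat.bijective_iff_surjective_and_card _).2 ⟨f.rangeRestrict_surjective, by
    rw [r, Nat.card_prod, c2, Mathieu.card_M12]; exact (gC.card 1).symm⟩)).trans (MulEquiv.subgroupCongr r)).symm⟩

/-- the letters describe the centraliser of `e` -/
structure JC (γ : ℕ → G) : Prop where
  g : Gf C γ 1 []
  c : genW γ (C.ws 1) = centralizer {γ 1}

theorem exists_jc {e : G} (h1 : e ≠ 1) {i : centralizer ({e} : Set G) ≃* Multiplicative (ZMod 2) × Spor.M12} :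
    ∃ γ : ℕ → G, JC γ ∧ γ 1 = e := by
  obtain ⟨j⟩ := C_equiv
  obtain ⟨γ, g, a⟩ := Gf.of_hom C_ok ((centralizer {e}).subtype.comp (j.trans i.symm).toMonoidHom)
    ((subtype_injective _).comp (j.trans i.symm).injective) (cs := [1, 2, 3, 4, 5, 6]) rfl
  rw [MonoidHom.range_comp, MonoidHom.range_eq_top.2 (j.trans i.symm).surjective, ← MonoidHom.range_eq_map, range_subtype] at a
  have b : ∀ {x}, x ∈ genW γ (C.ws 1) → e * x = x * e := fun h => (cms (a.le h)).symm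
  have c := ((C_cen g :) e ((C_cZ g :) e (a.ge (mcs rfl)) (b g.mem)) (b g.mem) (b g.mem) (b g.mem)).resolve_left h1
  exact ⟨γ, ⟨g, c ▸ a⟩, c.symm⟩

theorem conj_mul' (a b x : G) : MulAut.conj (a * b) x = MulAut.conj a (MulAut.conj b x) := by rw [map_mul]; rfl

theorem cm' (φ : MulAut G) {x y x' y' : G} (h : x * y = x' * y') : φ x * φ y = φ x' * φ y' := by rw [← map_mul, h, map_mul]

theorem cmm {a x y : G} (h : MulAut.conj a x = y) : a * x = y * a := mul_inv_eq_iff_eq_mul.1 h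

/-- `g` fuses `e` and `e z` -/
structure S0 (γ : ℕ → G) (g : G) : Prop where
  e : MulAut.conj g (γ 1) = γ 1 * zz γ
  z : MulAut.conj g (zz γ) = zz γ

/-- the normalised element -/
structure S1 (γ : ℕ → G) (g : G) : Prop extends S0 γ g where
  t : MulAut.conj g (γ 2) = γ 2
  p : MulAut.conj g (γ 4) = γ 4
  r : MulAut.conj g (γ 5) = γ 5
  v : MulAut.conj g (γ 3) = γ 3 ∨ MulAut.conj g (γ 3) = γ 3 * zz γ

namespace JC

variable (J : JC γ)
include J

theorem mC {d : G} (h : d * γ 1 = γ 1 * d) : d ∈ genW γ (C.ws 1) := J.c.ge (mcs h)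

theorem mK {d : G} (h : d * γ 1 = γ 1 * d) (a : d * zz γ = zz γ * d) : d ∈ genW γ (C.ws 3) := (C_cZ J.g :) d (J.mC h) a

theorem mB {d : G} (h : d * γ 1 = γ 1 * d) (a : d * zz γ = zz γ * d) (b : d * uu γ = uu γ * d) : d ∈ genW γ (C.ws 6) :=
  (C_cU J.g :) d (J.mK h a) b

theorem mE {d : G} (h : d * γ 1 = γ 1 * d) (a : d * zz γ = zz γ * d) (b : d * uu γ = uu γ * d) (c : d * γ 4 = γ 4 * d) :
    d ∈ genW γ (C.ws 7) := (C_cP J.g :) d (J.mB h a b) c

theorem cardC : Nat.card (centralizer ({γ 1} : Set G)) = 190080 := J.c ▸ J.g.card 1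

theorem upd (v : ℕ) (x : G) (e : (.l 0 :: C.ws 1).all (avoid v) = true := by decide) : JC (T2.upd γ v x) :=
  have a := List.all_cons ▸ e
  ⟨J.g.upd v x (by rwa [List.append_nil]), (genW_upd (Bool.and_eq_true_iff.1 a).2).trans (J.c.trans (congrArg (fun x => centralizer {x})
    (ev_upd (t := .l 1) (List.all_eq_true.1 e _ (List.mem_cons_of_mem _ List.mem_cons_self))).symm))⟩

omit J in
theorem cz {c x : G} (h : c * zz γ * c⁻¹ = x) (a : IsConj (γ 1) x) : IsConj (γ 1) (zz γ) := a.trans (isConj_iff.2 ⟨c, h⟩).symm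

theorem nK (S : S0 γ g) {x : G} (h : x ∈ genW γ (C.ws 3)) : MulAut.conj g x ∈ genW γ (C.ws 3) := by
  have a := cm' (MulAut.conj g) (J.g.comm h : x * zz γ = _)
  have b := cm' (MulAut.conj g) (J.g.comm h : x * γ 1 = _)
  rw [S.z] at a
  rw [S.e, ← mul_assoc, mul_assoc (γ 1), ← a, ← mul_assoc] at b
  exact J.mK (mul_right_cancel b) a

theorem adj (S : S0 γ g) {k : G} (h : k ∈ genW γ (C.ws 3)) : S0 γ (k * g) :=
  ⟨by rw [conj_mul', S.e]; exact cj_of (J.g.comm h), by rw [conj_mul', S.z]; exact cj_of (J.g.comm h)⟩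

theorem nsw (S : S0 γ g) (p : MulAut.conj g (γ 4) = γ 4) (t : MulAut.conj g (γ 2) = γ 3 * γ 5 * γ 2 * γ 3 * γ 5)
    (v : MulAut.conj g (γ 3) = γ 3 ∨ MulAut.conj g (γ 3) = γ 3 * zz γ) : False := by
  have H := J.g
  have se : MulAut.conj (γ 6) (γ 1) = γ 1 := (H.eq : γ 6 * γ 1 * (γ 6)⁻¹ = _)
  have sz : MulAut.conj (γ 6) (zz γ) = uu γ := (H.eq : γ 6 * zz γ * (γ 6)⁻¹ = _)
  have su : MulAut.conj (γ 6) (uu γ) = uu γ * zz γ := (H.eq : γ 6 * uu γ * (γ 6)⁻¹ = _)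
  have sp : MulAut.conj (γ 6) (γ 4) = γ 3 := (H.eq : γ 6 * γ 4 * (γ 6)⁻¹ = _)
  have sv : MulAut.conj (γ 6) (γ 3) = ww γ := (H.eq : γ 6 * γ 3 * (γ 6)⁻¹ = _)
  have sw : MulAut.conj (γ 6) (ww γ) = γ 4 := (H.eq : γ 6 * ww γ * (γ 6)⁻¹ = _)
  have k : ∀ x, MulAut.conj (g * γ 6 * (g * γ 6) * (g * γ 6)) x = MulAut.conj g (MulAut.conj (γ 6) (MulAut.conj g
      (MulAut.conj (γ 6) (MulAut.conj g (MulAut.conj (γ 6) x))))) := fun x => by simp only [conj_mul']
  have u : MulAut.conj g (uu γ) = uu γ := by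
    rw [map_pow, map_mul, map_mul, map_mul, p, t]
    rcases v with v | v <;> rw [v] <;> exact H.eq
  have m := J.mB (d := g * γ 6 * (g * γ 6) * (g * γ 6))
    (cmm (by rw [k]; simp only [map_mul, se, sz, su, S.e, S.z, u]; exact H.eq))
    (cmm (by rw [k]; simp only [map_mul, sz, su, S.z, u]; exact H.eq))
    (cmm (by rw [k]; simp only [map_mul, sz, su, S.z, u]; exact H.eq))
  obtain ⟨x, hx⟩ : ∃ x, x = ww γ := ⟨_, rfl⟩
  rcases v with v | v
  · have w : MulAut.conj g (ww γ) = ww γ * uu γ := by rw [map_mul, map_mul, t, v]; exact H.eq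
    rw [← hx] at sv sw w
    refine (C_sw1 H :) _ m (cmm ?_) (cmm ?_) trivial <;> rw [k] <;> simp only [map_mul, sp, sv, sw, v, w, p, sz, su, S.z, u] <;>
      exact H.eq
  · have w : MulAut.conj g (ww γ) = ww γ * (uu γ * zz γ) := by rw [map_mul, map_mul, t, v]; exact H.eq
    rw [← hx] at sv sw w
    refine (C_sw2 H :) _ m (cmm ?_) (cmm ?_) trivial <;> rw [k] <;> simp only [map_mul, sp, sv, sw, v, w, p, sz, su, S.z, u] <;>
      exact H.eq

theorem syl : SylC (genW γ (C.ws 4)) (γ 1) :=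
  have c : Nat.card (genW γ (C.ws 4)) = 128 := J.g.card 4
  ⟨orderOf_eq_prime (J.g.eq (x := γ 1 ^ 2)) J.g.ne, .of_card (n := 7) c, J.g.cen, by rw [c, J.cardC]; decide⟩

theorem nc : ¬ IsConj (γ 1) (zz γ) := fun h => by
  obtain ⟨k, a, b⟩ := J.syl.conj (isPGroup_zpowers (x := γ 3 * ww γ) (k := 2) (J.g.eq (x := (γ 3 * ww γ) ^ 4)))
    (zpowers_le.2 (mcs J.g.eq)) h.symm
  exact (C_nsq J.g :) _ (b _ (mem_zpowers _)) (by rw [conj_mul, ← a, zz, sq])

variable [Finite G]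

theorem ex0 (hN : ∀ φ : G →* ℤˣ, φ (γ 1) = 1) : ∃ g, S0 γ g := by
  have H := J.g
  obtain ⟨x, a, b, c, d⟩ := tr_fix hN J.syl (K0 := genW γ (C.ws 5)) H.le (by
    have := relIndex_mul_card (H.le : genW γ (C.ws 5) ≤ genW γ (C.ws 4))
    rw [H.card 4 (n := 128), H.card 5 (n := 64)] at this
    omega) H.mem H.nmem
  have e : x = γ 1 * zz γ := by
    rcases (C_zT H :) x b (d _ H.mem).symm (d _ H.mem).symm (d _ H.mem).symm with e | e | e | e
    · exact absurd (isConj_one_left.1 (e ▸ a)) H.ne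
    · exact absurd e c
    · exact absurd (e ▸ a) J.nc
    · exact e
  obtain ⟨k, i, j⟩ := J.syl.conj (isPGroup_zpowers (x := γ 3 * ww γ) (k := 2) (J.g.eq (x := (γ 3 * ww γ) ^ 4)))
    (zpowers_le.2 (mcs J.g.eq)) (e ▸ a).symm
  have l := (C_sq4 H :) _ (j _ (mem_zpowers _))
  rw [conj_mul, ← sq, conj_pow, (H.eq : zz γ ^ 2 = 1), mul_one, mul_inv_cancel] at l
  have f : ∀ {c : G}, c * γ 1 * c⁻¹ = γ 1 → c * (k * zz γ * k⁻¹) * c⁻¹ = zz γ → S0 γ (c * k) := fun {c} m n => by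
    have q : MulAut.conj (c * k) (zz γ) = zz γ := (conj_mul' _ _ _).trans n
    have r : MulAut.conj (c * k) (γ 1 * zz γ) = γ 1 := (conj_mul' _ _ _).trans ((congrArg _ i).trans m)
    rw [map_mul, q] at r
    exact ⟨(eq_mul_inv_of_mul_eq r).trans H.eq, q⟩
  rcases l rfl with l | l | l | l
  · exact absurd (conj_eq_one_iff.1 l) H.ne
  · exact ⟨_, f (c := 1) (by simp) (by simpa using l)⟩
  · exact ⟨_, f (c := (γ 6)⁻¹) H.eq (by rw [l]; exact H.eq)⟩
  · exact ⟨_, f (c := γ 6) H.eq (by rw [l]; exact H.eq)⟩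

omit [Finite G] in
theorem ex1 (S : S0 γ g) : ∃ g, S1 γ g := by
  have H := J.g
  obtain ⟨c, a, b, -⟩ := (C_n3 H :) _ (J.nK S (x := γ 5) H.mem) (by rw [← map_pow, (H.eq : γ 5 ^ 3 = 1), map_one])
    (mt (map_eq_one_iff _ (MulAut.conj g).injective).1 H.ne)
  have r : MulAut.conj (c * g) (γ 5) = γ 5 := (conj_mul' _ _ _).trans (cj_of b)
  have S := J.adj S a
  generalize c * g = g at S r
  have i := cm' (MulAut.conj g) (H.eq : γ 3 * γ 5 = (γ 5)⁻¹ * γ 3)
  rw [map_inv, r] at i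
  obtain ⟨c, a, b⟩ := (C_nv H :) _ (J.nK S (x := γ 3) H.mem) i (by rw [← map_mul, (H.eq : γ 3 * γ 3 = 1), map_one])
  have r : MulAut.conj (c * g) (γ 5) = γ 5 := by rw [conj_mul', r]; exact cj_of (H.comm a)
  have S := J.adj S ((H.le : _ ≤ genW γ (C.ws 3)) a)
  rw [← MulAut.conj_apply, ← conj_mul'] at b
  generalize c * g = g at S r b
  have n : ∀ {x k : G}, MulAut.conj g (γ 3) = x → k * (γ 1 * zz γ) * k⁻¹ = x → False := fun {x k} e f =>
    J.nc (cz (c := γ 6 * γ 5 * (γ 6)⁻¹) H.eq (((isConj_iff.2 ⟨g, S.e⟩).trans (isConj_iff.2 ⟨k, f⟩)).trans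
      (isConj_iff.2 ⟨g, e⟩).symm))
  have v : MulAut.conj g (γ 3) = γ 3 ∨ MulAut.conj g (γ 3) = γ 3 * zz γ := by
    rcases b with b | b | b | b
    exacts [Or.inl b, Or.inr b, (n (k := γ 6 * γ 5 * (γ 6)⁻¹) b H.eq).elim, (n (k := γ 6 * (γ 5)⁻¹ * (γ 6)⁻¹) b H.eq).elim]
  have o : ∀ {x : G}, x = 1 → MulAut.conj g x = 1 := fun e => by rw [e, map_one]
  have p := (C_np H :) _ (J.nK S (x := γ 4) H.mem) ((map_mul _ _ _).symm.trans (o H.eq))
    (mt (map_eq_one_iff _ (MulAut.conj g).injective).1 H.ne)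
    (by simpa only [map_pow, map_mul, map_inv, r] using o (H.eq : ((γ 5)⁻¹ * γ 4) ^ 3 = 1))
    (v.imp (fun v => by simpa only [map_pow, map_mul, map_inv, r, v] using o (H.eq : ((γ 5)⁻¹ * γ 3 * γ 4) ^ 2 = 1))
      fun v => by simpa only [map_pow, map_mul, map_inv, r, v] using o (H.eq : ((γ 5)⁻¹ * γ 3 * γ 4) ^ 2 = 1))
  have q := o (H.eq : ((γ 5)⁻¹ * γ 4 * γ 3 * γ 2) ^ 2 = 1)
  have z := S.z
  rw [map_pow, map_mul, map_mul, map_mul] at z
  simp only [map_pow, map_mul, map_inv, r, p] at q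
  exact ⟨g, S, ((C_nt H :) _ (J.nK S (x := γ 2) H.mem) ((map_mul _ _ _).symm.trans (o H.eq))
    (by simpa only [map_pow, map_mul, map_inv, r] using o (H.eq : ((γ 5)⁻¹ * γ 2) ^ 3 = 1))
    (v.imp (fun v => by rw [v] at q z; exact ⟨q, z⟩) fun v => by rw [v] at q z; exact ⟨q, z⟩)).resolve_right fun t => J.nsw S p t v, p, r, v⟩

omit [Finite G] in
theorem ex2 (S : S1 γ g) : ∃ g, S1 γ g ∧ g * g = 1 := by
  have H := J.g
  have e : ∀ x, MulAut.conj g (MulAut.conj g x) = x → g * g * x = x * (g * g) := fun x h => cmm ((conj_mul' g g x).trans h)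
  have f : MulAut.conj g (g * g) = g * g := by rw [map_mul, MulAut.conj_apply, mul_inv_cancel_right]
  rcases (C_zK H :) _ (J.mK (e _ (by rw [S.e, map_mul, S.e, S.z]; exact H.eq)) (e _ (by rw [S.z, S.z]))) (e _ (by rw [S.t, S.t]))
    (e _ (S.v.elim (fun v => by rw [v, v]) fun v => by rw [v, map_mul, v, S.z]; exact H.eq)) (e _ (by rw [S.p, S.p]))
    with a | a | a | a
  · exact ⟨g, S, a⟩
  · rw [a, S.e] at f; exact absurd f H.ne
  · have k : ∀ x, γ 1 * x * (γ 1)⁻¹ = x → MulAut.conj (g * γ 1) x = MulAut.conj g x := fun x a => by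
      rw [conj_mul', MulAut.conj_apply (γ 1), a]
    refine ⟨g * γ 1, ⟨⟨(k _ H.eq).trans S.e, (k _ H.eq).trans S.z⟩, (k _ H.eq).trans S.t, (k _ H.eq).trans S.p,
      (k _ H.eq).trans S.r, (k (γ 3) H.eq).symm ▸ S.v⟩, ?_⟩
    calc _ = MulAut.conj g (γ 1) * (g * g) * γ 1 := by rw [MulAut.conj_apply]; group
      _ = 1 := by rw [a, S.e]; exact H.eq
  · rw [a, map_mul, S.e, S.z] at f; exact absurd f H.ne

end JC

end Cfsg.Lib.Y12
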