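import Cfsg.Agent.Lib.Y12.C
import Cfsg.Agent.Lib.Y12.ME

/-! An involution with centraliser `2 × M₁₂`: the centraliser of a four-group (helper3). -/

set_option autoImplicit false
set_option maxRecDepth 100000

namespace Cfsg.Lib.Y12

open Cfsg.Lib.Calc Cfsg.Lib.Grp Cfsg.Lib.T2 Cfsg.Lib.T3 Subgroup

variable {G : Type*} [Group G] [Finite G] {γ : ℕ → G}

/-- a subgroup of index 2 from the transfer -/
theorem exists_half {Y K K0 : Subgroup G} {t : G} (t2 : t * t = 1) (l : K ≤ Y) (l0 : K0 ≤ K) (h2 : K0.relIndex K = 2)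
    (mt : t ∈ K) (nt : t ∉ K0) (h : ∀ v ∈ K, v * v = 1 → v ∉ K0 → ∃ k ∈ K, k * t = v * k)
    (hC : ∀ c ∈ Y, c * t = t * c → c ∈ K) : ∃ X ≤ Y, t ∉ X ∧ (∀ x ∈ Y, x ∈ X ∨ x * t ∈ X) ∧ ∀ x ∈ Y, x ^ 3 = 1 → x ∈ X := by
  obtain ⟨φ, e⟩ := not_forall.1 fun hN : ∀ φ : Y →* ℤˣ, φ ⟨t, l mt⟩ = 1 => by
    have a := tr_one hN (K := K.subgroupOf Y) (K0 := K0.subgroupOf Y) (Subtype.ext t2) (comap_mono l0)
      ((relIndex_subgroupOf l).trans h2) mt nt fun v c m n => by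
        obtain ⟨k, i, j⟩ := h v m (by
          obtain ⟨k, rfl⟩ := isConj_iff.1 c
          rw [coe_mul, coe_mul, coe_inv, conj_mul, t2, mul_one, mul_inv_cancel]) n
        exact ⟨⟨k, l i⟩, i, Subtype.ext (cj_of j)⟩
    rw [inf_eq_right.2 fun (c : Y) m => hC c c.2 (by simpa using congrArg Y.subtype (cms m))] at a
    exact absurd (Nat.le_of_dvd Nat.card_pos a) (by have := @Nat.card_pos (centralizer ({⟨t, l mt⟩} : Set Y)) _ _; omega)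
  refine ⟨φ.ker.map Y.subtype, map_subtype_le _, fun ⟨x, a, b⟩ => e ((Subtype.ext b : x = ⟨t, l mt⟩) ▸ a), fun x m => ?_, fun x m a => ?_⟩
  · refine (Int.units_eq_one_or (φ ⟨x, m⟩)).imp (fun a => ⟨_, a, rfl⟩) fun a => ⟨⟨x, m⟩ * ⟨t, l mt⟩, ?_, rfl⟩
    rw [SetLike.mem_coe, MonoidHom.mem_ker, map_mul, a, (Int.units_eq_one_or _).resolve_left e]; rfl
  · refine ⟨⟨x, m⟩, (Int.units_eq_one_or _).resolve_right fun b => ?_, rfl⟩
    have := map_pow φ ⟨x, m⟩ 3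
    rw [b, show (⟨x, m⟩ : Y) ^ 3 = 1 from Subtype.ext a, map_one] at this
    exact absurd this (by decide)

/-- a group with an abelian Sylow subgroup of order 64 -/
theorem topQ (g : Gf Q γ 0 []) (c1 : ∀ c, c * γ 1 = γ 1 * c → c ∈ genW γ (Q.ws 1))
    (c2 : ∀ c, c * (γ 1 * γ 4) = γ 1 * γ 4 * c → c ∈ genW γ (Q.ws 1))
    (f1 : ∀ x ∈ genW γ (Q.ws 1), IsConj (γ 1) x → ∃ k ∈ genW γ (Q.ws 0), k * γ 1 * k⁻¹ = x)
    (f2 : ∀ x ∈ genW γ (Q.ws 1), IsConj (γ 1 * γ 4) x → ∃ k ∈ genW γ (Q.ws 0), k * (γ 1 * γ 4) * k⁻¹ = x) :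
    genW γ (Q.ws 0) = ⊤ := by
  have l : genW γ (Q.ws 1) ≤ genW γ (Q.ws 0) := g.le
  have lA : genW γ (Q.ws 2) ≤ genW γ (Q.ws 0) := g.le
  have ho : ¬ 2 ∣ (genW γ (Q.ws 1)).relIndex (genW γ (Q.ws 0)) := by
    have := relIndex_mul_card l
    rw [g.card 0 (n := 576), g.card 1 (n := 64)] at this
    omega
  have u1 := uu_of_cen ho g.eq (fun c e => l (c1 c e)) f1
  have u2 := uu_of_cen ho g.eq (fun c e => l (c2 c e)) f2
  have m1 : γ 1 ∈ genW γ (Q.ws 1) := g.mem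
  have m2 : γ 1 * γ 4 ∈ genW γ (Q.ws 1) := g.mem
  have hne : ¬ IsConj (γ 1) (γ 1 * γ 4) := fun h => let ⟨k, a, b⟩ := f1 _ m2 h; (Q_n g :) k a (cmm b) trivial
  have s := (Q_sq g :)
  have o : ∀ j : G, orderOf (j * γ 1 * j⁻¹) = 2 := fun j => orderOf_eq_prime
    (by rw [conj_pow, (g.eq : γ 1 ^ 2 = 1), mul_one, mul_inv_cancel]) (mt conj_eq_one_iff.1 g.ne)
  have step : ∀ P : G → Prop, (∀ x ∈ genW γ (Q.ws 1), P x → UU (genW γ (Q.ws 0)) x) → ∀ q ∈ genW γ (Q.ws 1),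
      (∃ j ∈ genW γ (Q.ws 2), ∃ k ∈ genW γ (Q.ws 2), ∀ c ∈ genW γ (Q.ws 2), c * q = q * c →
        (j * γ 1 * j⁻¹ * (c * (j * γ 1 * j⁻¹) * c⁻¹) = 1 ∨ P (j * γ 1 * j⁻¹ * (c * (j * γ 1 * j⁻¹) * c⁻¹)) ∨
          P (j * γ 1 * j⁻¹ * (c * (j * γ 1 * j⁻¹) * c⁻¹) * q)) ∧
        (P (j * γ 1 * j⁻¹ * (c * (k * (γ 1 * γ 4) * k⁻¹) * c⁻¹)) ∨
          P (j * γ 1 * j⁻¹ * (c * (k * (γ 1 * γ 4) * k⁻¹) * c⁻¹) * q))) → UU (genW γ (Q.ws 0)) q := by
    rintro P hP q mq ⟨j, mj, k, mk, h⟩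
    have mz := nj ((g.norm 0 1 :) (lA mj)) m1
    have my := nj ((g.norm 0 1 :) (lA mk)) m2
    have uz := u1.isConj (isConj_iff.2 ⟨j, rfl⟩)
    have uy := u2.isConj (isConj_iff.2 ⟨k, rfl⟩)
    have n : ∀ c : G, c * (j * γ 1 * j⁻¹) * c⁻¹ ≠ k * (γ 1 * γ 4) * k⁻¹ := fun c e => hne (isConj_iff.2 ⟨k⁻¹ * c * j, by
      rw [← mul_inv_eq_iff_eq_mul, ← inv_mul_eq_iff_eq_mul] at e; rw [← e]; group⟩)
    have oz := o j
    generalize j * γ 1 * j⁻¹ = z at *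
    generalize k * (γ 1 * γ 4) * k⁻¹ = y at *
    refine uu_of_cn u1 (l m1) (s q mq) (fun x a b => comm_of_sq s ((Q_E g :) x a b) m1) fun c hc => mem_of_trans (l mz) oz uz
      (l mq) (comm_of_sq s mz mq) (s y my) (l my) (comm_of_sq s my mq) uy (fun c _ => n c) (fun w ow _ wz ⟨c, cq, e⟩ => ?_) hc
    have mw := mem_of_uu uz (l mz) (Set.mem_of_eq_of_mem (cj_of wz) (l mz))
    have mw' := (Q_E g :) w mw (sq2 ow)
    obtain ⟨d, md, i⟩ := (Q_D g :) c (e.elim (fun e => mem_of_uu uz (l mz) (e ▸ mul_mem mw (l mz)))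
      fun e => mem_of_uu uy (l my) (e ▸ mul_mem mw (l mz)))
    have a : ∀ x ∈ genW γ (Q.ws 1), d * x * d⁻¹ = c * x * c⁻¹ := fun x m => by
      calc _ = d * (d⁻¹ * c * x * (d⁻¹ * c)⁻¹) * d⁻¹ := by rw [cj_of (comm_of_sq s i m)]
        _ = _ := by group
    have b := h d md (cmm ((a q mq).trans (cj_of cq)))
    have f : z * (w * z) = w := by rw [wz, ← mul_assoc, s z mz, one_mul]
    rw [a z mz, a y my] at b
    rcases e with e | e <;> rw [← e, f] at b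
    · rcases b.1 with b | b | b
      exacts [by simp [b] at ow, (hP w mw' b).fx, (hP _ (mul_mem mw' mq) b).fx1]
    · exact b.2.elim (fun b => (hP w mw' b).fx) fun b => (hP _ (mul_mem mw' mq) b).fx1
  have A := fun q mq h => step (fun x => ∃ d ∈ genW γ (Q.ws 2), d * x * d⁻¹ = γ 1 ∨ d * x * d⁻¹ = γ 1 * γ 4)
    (fun x _ ⟨d, _, e⟩ => e.elim (fun e => u1.isConj (isConj_iff.2 ⟨d, e⟩).symm) fun e => u2.isConj (isConj_iff.2 ⟨d, e⟩).symm)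
    q mq ((Q_A g :) q mq h)
  refine top_of_trans (l m1) (by simpa using o 1) u1 g.eq (l m2) u2 hne fun w ow wz _ => ?_
  rcases (Q_B g :) w (c1 w wz) with b | b | b
  exacts [by simp [b] at ow, A w (c1 w wz) b, step _ A w (c1 w wz) b]

omit [Finite G] in
theorem cjc {a c x x' : G} (h : a * x * a⁻¹ = x') (e : c * x' = x' * c) : a⁻¹ * c * a * x = x * (a⁻¹ * c * a) := by
  calc _ = a⁻¹ * (c * (a * x * a⁻¹)) * a := by group
    _ = _ := by rw [h, e, ← h]; group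

omit [Finite G] in
theorem mems_newLet {labs l : List W} {K : Subgroup G} (h : ∀ t ∈ l.map (W.subst labs), t.ev γ ∈ K) :
    ∀ t ∈ l, t.ev (newLet γ labs) ∈ K := fun t ht => W.ev_subst γ labs t ▸ h _ (List.mem_map_of_mem ht)

/-- the centraliser of the four-group -/
abbrev YY (γ : ℕ → G) : Subgroup G := centralizer {zz γ} ⊓ centralizer {uu γ}

namespace J0

variable (J : J0 γ)
include J

omit [Finite G] in
theorem cR {c : G} (m : c ∈ YY γ) (h : c * γ 1 * c⁻¹ * (γ 1)⁻¹ ∈ genW γ (N0.ws 5)) : c ∈ genW γ (N0.ws 4) := by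
  obtain ⟨a, i, j, -⟩ := (N0_ce J.g0 :) _ h
  exact (mul_mem_cancel_left i).1 ((J.g0.le (i := 2) (j := 4) :) (J.mB (by rw [← mul_assoc, ← j]; group)
    (Commute.mul_left (J.g0.comm i) (cms m.1)) (Commute.mul_left (J.g0.comm i) (cms m.2))))

theorem cY (c : G) (m : c ∈ YY γ) (h : c * γ 9 = γ 9 * c) : c ∈ genW γ (N0.ws 6) := by
  have N := J.g0
  have y : yy γ = γ 9 ∨ yy γ = (zz γ)⁻¹ * γ 9 := J.y.imp Eq.symm fun e => by rw [e, inv_mul_cancel_left]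
  have a := cjc rfl (show c * yy γ = yy γ * c from y.elim (fun e => e ▸ h) fun e => by
    rw [e]; exact Commute.mul_right (Commute.inv_right (cms m.1)) h)
  have b := cjc (J.g.eq : γ 5 * zz γ * (γ 5)⁻¹ = _) (cms m.1)
  have d := cjc (J.g.eq : γ 5 * (γ 4 * uu γ) * (γ 5)⁻¹ = _) (cms m.2)
  have e := nj (N.nrm 4 : kk γ * γ 8 * γ 9 ∈ _) ((N.le (i := 2) (j := 4) :) ((C_cv J.g :) _
    (J.mK (cjc (a := kk γ * γ 8 * γ 9) N.eq a) (cjc N.eq b)) (cjc N.eq d)))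
  rw [show ∀ a b : G, a * (a⁻¹ * b * a) * a⁻¹ = b from fun a b => by group] at e
  have f := (NE_cy J.gNE :) _ e a d
  exact (genW_le.2 (rc N.mem (rc N.mem (rc N.mem (rc N.mem (rc N.mem (rc N.mem (rc (y.elim
    (fun e => Set.mem_of_eq_of_mem e N.mem) fun e => Set.mem_of_eq_of_mem e N.mem) nil_all))))))) : genW γ (NE.ws 5) ≤ _)
    (Set.mem_of_eq_of_mem (by group) f)

theorem cF (c : G) (m : c ∈ YY γ) : c ∈ genW γ (N0.ws 11) := by
  have N := J.g0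
  have l4 : genW γ (N0.ws 4) ≤ genW γ (N0.ws 6) := N.le
  have lY : genW γ (N0.ws 6) ≤ YY γ := le_inf N.cen N.cen
  obtain ⟨X, l, ny, h2, h3⟩ := exists_half (t := γ 9) N.eq lY l4 (by
    have := relIndex_mul_card l4
    rw [N.card 6 (n := 512), N.card 4 (n := 256)] at this
    omega) N.mem N.nmem (fun v a b c => let ⟨k, i, j, _⟩ := (N0_iy N :) v a b c; ⟨k, l4 i, j⟩) J.cY
  have l7 : genW γ (N0.ws 7) ≤ X := (N.le (j := 9)).trans (genW_le.2 fun t ht => h3 _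
    ((le_inf N.cen N.cen : genW γ (N0.ws 9) ≤ YY γ) (mem_genW _ ht))
    ((N.rels (l := (N0.ws 9).map (.pow · 3)) :) _ (List.mem_map_of_mem ht)))
  have nF : YY γ ≤ normalizer (genW γ (N0.ws 5) : Set G) := fun x m => nc' (genW_le_centralizer
    (rc (cms m.1).symm (rc (cms m.2).symm nil_all)))
  have := normal_subgroupOf_of_le_normalizer (l.trans nF)
  have h : ∀ c, newLet γ labH c ∈ X := fun c => l7 (T2.newLet_mem N.zero (by decide +kernel) c)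
  have e0 : genW (newLet γ labH) (Q.ws 0) = genW γ (N0.ws 7) := genW_newLet _ _ _
  have e1 : genW (newLet γ labH) (Q.ws 1) = genW γ (N0.ws 4) := genW_newLet _ _ _
  have l0 : genW γ (N0.ws 5) ≤ genW (newLet γ labH) (Q.ws 0) := N.le.trans e0.ge
  have l1 : genW γ (N0.ws 5) ≤ genW (newLet γ labH) (Q.ws 1) := N.le.trans e1.ge
  have g : Gf Q (qd (genW γ (N0.ws 5)) h) 0 [] := Gf.of_tb Q_ok (qd_zero h N.zero) tcH_tb (qd_rels h (mems_newLet N.mems)) (by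
    have := qd_card h l0
    rw [e0, N.card 7 (n := 2304), N.card 5 (n := 4)] at this
    omega)
  have ye : γ 9 * γ 1 * (γ 9)⁻¹ = γ 1 * γ 4 := N.eq
  have my : γ 9 ∈ YY γ := lY N.mem
  have cR' : ∀ c ∈ YY γ, c * γ 1 * c⁻¹ * (γ 1 * γ 4)⁻¹ ∈ genW γ (N0.ws 5) → (γ 9)⁻¹ * c ∈ genW γ (N0.ws 4) := fun c m a =>
    J.cR (mul_mem (inv_mem my) m) (Set.mem_of_eq_of_mem (by rw [← ye]; group) (nj (nF (inv_mem my)) a))
  have n : ∀ c ∈ X, c * γ 1 * c⁻¹ * (γ 1 * γ 4)⁻¹ ∉ genW γ (N0.ws 5) := fun c m a =>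
    ny (inv_mem_iff.1 ((mul_mem_cancel_right m).1 (l7 ((N.le (i := 4) (j := 7) :) (cR' c (l m) a)))))
  have k : ∀ (a : X) (x : X ⧸ (genW γ (N0.ws 5)).subgroupOf X), IsConj (γ 1) a.1 → a.1 ∉ genW γ (N0.ws 5) →
      (∀ d : G, d * a * d⁻¹ * (γ 1)⁻¹ ∈ genW γ (N0.ws 5) ∨ d * a * d⁻¹ * (γ 1 * γ 4)⁻¹ ∈ genW γ (N0.ws 5) → d ∈ X →
        d * a * d⁻¹ * a.1⁻¹ ∈ genW γ (N0.ws 5)) → x ∈ genW (qd _ h) (Q.ws 1) → IsConj (QuotientGroup.mk' _ a) x →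
      ∃ k ∈ genW (qd _ h) (Q.ws 0), k * QuotientGroup.mk' _ a * k⁻¹ = x := fun a x ea na f mx i => by
    obtain ⟨c, rfl⟩ := isConj_iff.1 i
    obtain ⟨c, rfl⟩ := QuotientGroup.mk'_surjective _ c
    rw [← map_inv, ← map_mul, ← map_mul] at mx ⊢
    have ec := ea.trans (isConj_iff.2 ⟨c.1, rfl⟩)
    rcases (N0_cl N :) _ (e1.le ((qd_mem_iff h l1).1 mx)) (by
      obtain ⟨k, e⟩ := isConj_iff.1 ec
      rw [coe_mul, coe_mul, coe_inv, ← e, conj_mul, (N.eq : γ 1 * γ 1 = 1), mul_one, mul_inv_cancel])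
      with p | ⟨d, md, p⟩ | ⟨d, -, p, -⟩
    · exact absurd ((mem_normalizer_iff.1 (nF (l c.2)) _).2 p) na
    · have md := (N.le (i := 8) (j := 7) :) md
      refine ⟨QuotientGroup.mk' _ ⟨d, l7 md⟩⁻¹, qd_mem h (e0.ge (inv_mem md)), ?_⟩
      rw [← map_inv, ← map_mul, ← map_mul, mk_eq]
      exact Set.mem_of_eq_of_mem (by simp [mul_assoc]) (nj (nF (l (inv_mem (l7 md)))) (inv_mem (f (d * c)
        (by simpa only [coe_mul, coe_inv, mul_assoc, mul_inv_rev] using p) (mul_mem (l7 md) c.2))))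
    · exact absurd (JC.cz (c := γ 6 * γ 5 * (γ 6)⁻¹) J.g.eq (ec.trans (isConj_iff.2 ⟨d, cj_of p⟩))) J.nc
  have t := topQ g (fun c e => by
      obtain ⟨c, rfl⟩ := QuotientGroup.mk'_surjective _ c
      exact qd_mem h (e1.ge (J.cR (l c.2) (Set.mem_of_eq_of_mem (by simp [mul_assoc]; rfl)
        ((mk_eq (a := c * subLet h 1) (b := subLet h 1 * c)).1 e)))))
    (fun c e => by
      obtain ⟨c, rfl⟩ := QuotientGroup.mk'_surjective _ c
      have a : c * (γ 1 * γ 4) * (γ 1 * γ 4 * c)⁻¹ ∈ genW γ (N0.ws 5) := mk_eq (a := c * (subLet h 1 * subLet h 4))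
        (b := subLet h 1 * subLet h 4 * c) |>.1 e
      have := nj (N.nrm 4 : γ 9 ∈ _) (cR' _ (mul_mem (l c.2) my) (Set.mem_of_eq_of_mem (by rw [← ye]; group) a))
      exact qd_mem h (e1.ge (Set.mem_of_eq_of_mem (by group) this)))
    (fun x => k (subLet h 1) x (IsConj.refl _) (N.nmem (x := γ 1)) fun d p m => p.resolve_right (n d m))
    (fun x => k (subLet h 1 * subLet h 4) x (isConj_iff.2 ⟨_, ye⟩) (N.nmem (x := γ 1 * γ 4)) fun d p m => p.resolve_left fun a =>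
      n d⁻¹ (inv_mem m) (Set.mem_of_eq_of_mem (by change _ = d⁻¹ * (d * (γ 1 * γ 4) * d⁻¹ * _)⁻¹ * _; group) (nj (nF (l (inv_mem m))) (inv_mem a))))
  have f : X ≤ genW γ (N0.ws 11) := fun x m => (N.le (i := 7) (j := 11) :) (e0.le ((qd_mem_iff h l0 (y := ⟨x, m⟩)).1 (t.ge trivial)))
  exact (h2 c m).elim (@f c) fun a => (mul_mem_cancel_right N.mem).1 (f a)

end J0

end Cfsg.Lib.Y12
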