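import Cfsg.Agent.Lib.Y12.Tr
import Cfsg.Agent.Lib.Mathieu.Classes

/-! The group `2 × M₁₂` on 26 points (generated data, helper3). -/

set_option autoImplicit false
set_option maxRecDepth 1000000
set_option maxHeartbeats 0

namespace Cfsg.Lib.Y12

open Cfsg.Lib.Calc Cfsg.Lib.Grp Cfsg.Lib.T2 Cfsg.Lib.T3

/-- a word -/
abbrev ww {G : Type*} [Group G] (γ : ℕ → G) : G := γ 2 * γ 3 * γ 2

/-- a word -/
abbrev zz {G : Type*} [Group G] (γ : ℕ → G) : G := (γ 3 * ww γ) ^ 2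

/-- a word -/
abbrev uu {G : Type*} [Group G] (γ : ℕ → G) : G := (γ 4 * ww γ) ^ 2

/-- a word -/
abbrev hh {G : Type*} [Group G] (γ : ℕ → G) : G := γ 2 * γ 8 * γ 2

/-- a word -/
abbrev kk {G : Type*} [Group G] (γ : ℕ → G) : G := γ 6 * γ 9 * (γ 6)⁻¹

def C_L0 : List (ℕ × List ℕ) := [((nat_lit 3), [(nat_lit 0x338bdab49ca307b9ac5a928398a418820), (nat_lit 0x338b5e957c17299d028942d7014323126), (nat_lit 0x33872e959b4b07de4cb28c83a62408062), (nat_lit 0x3388adf3a22edaba04b2932398ac10c20), (nat_lit 0x3385d2f1286c272812abe039a0ed32584), (nat_lit 0x3380924d4540f80a8b6255331c762baf1), (nat_lit 0x338ac5763b28953c81bb84628e604424d), (nat_lit 0x3385c66fab6c8a1e43b94307014261126), (nat_lit 0x338a2e3770aa12cc69b1d80511e66ca08), (nat_lit 0x338205b283d9541a6e00ef414525b2d47), (nat_lit 0x3388d6cb526ec394d0a4e447b5c800443), (nat_lit 0x3383c6b47a1529da02b940d705634988c), (nat_lit 0x338131b24506f806ab224f332816bc4ae), (nat_lit 0x3387decb39269555818b86628a8093510),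 (nat_lit 0x338032086cc34909f62255531c6b716f1), (nat_lit 0x338a5d47b1aa45bd208b84c28e618224d), (nat_lit 0x338634201dc8e12635941e544cd43a976), (nat_lit 0x33848e086d0d3932b1104af0389751ecb), (nat_lit 0x338191b24504f802b66195349c2b8ddc5), (nat_lit 0x3389018432daa4c2d7089c7195119beb4), (nat_lit 0x338601109509369aa508eef1452e5d947), (nat_lit 0x3386b00113a571a0aa219714da07a55f3), (nat_lit 0x3388048c3590a4c977008a71b9b1ad26f), (nat_lit 0x3386852621e5664151009cb195177ceb4)]),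
  ((nat_lit 11), [(nat_lit 0x338bdab49ca307b9ac5a928398a418820), (nat_lit 0x338b54ae525603c4c87d2019b6f21888c), (nat_lit 0x33875547992f07c586a5a485b4a918402), (nat_lit 0x3382deca391c95d0c08ce4c7b6a118910), (nat_lit 0x3388aacb9a5d07dccd3d488a30b218041), (nat_lit 0x3388969354ac03ad0d7552179af019182), (nat_lit 0x338a5a6f384a95b80d55c8c89ab21a202), (nat_lit 0x3382bab65a632a1da2bcc867b14018510), (nat_lit 0x3385d2af542203d9a699641722e91b044), (nat_lit 0x3383d66f580b2a444cb3926bb5441a201), (nat_lit 0x3385aa6fa08a43dc26ac64d732c91a200), (nat_lit 0x338ad2d78c9c453cc229c2d582701a189)]),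
  ((nat_lit 13), [(nat_lit 0x338bdab49ca307b9ac5a928398a418820), (nat_lit 0x338515d73c1e69d1805c449b36b218488), (nat_lit 0x338b4eaeb9142894cc5bd30382811a24d), (nat_lit 0x3389dea5b05e85500c5c5223b5d21c086), (nat_lit 0x3383bcb5a06e955a0d5c5129b1c218086), (nat_lit 0x3383a9d5292698dd005bc41b329019a4d), (nat_lit 0x3383c69574ac97cc465aa04bb0a81b420), (nat_lit 0x3389c6c570a88b9e465a8047b6a91b030), (nat_lit 0x338b468eac8e27a9285cc24282e61b60c), (nat_lit 0x338b3eeea40a299c2d5c4d2502a91b088), (nat_lit 0x338baa742a1d0b1c805bda189aa91b242)]),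
  ((nat_lit 10), [(nat_lit 0x338bdab49ca307b9ac5a928398a418820), (nat_lit 0x3388bac79a54ca55a65dc087c0a119052), (nat_lit 0x33829dd454a217d5a05cc46b22e41a60c), (nat_lit 0x338555cf982e63d9b05c648a30a218489), (nat_lit 0x3388d4f650a60a39a859586786f019132)]),
  ((nat_lit 19), [(nat_lit 0x338bdab49ca307b9ac5a928398a418820), (nat_lit 0x338bbdd628a69a1db25a881a9a301b008), (nat_lit 0x3389d6d4b98a873da25a9303ca201b024), (nat_lit 0x338bd0ef8b0a4b55a25aa0071a691c901)]),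
  ((nat_lit 20), [(nat_lit 0x338bdab49ca307b9ac5a928398a418820), (nat_lit 0x3388bdd59c8a13d1a25a809b32f019888), (nat_lit 0x33829e8e9cae4b55a65a90078a211b209)]),
  ((nat_lit 24), [(nat_lit 0x338bdab49ca307b9ac5a928398a418820), (nat_lit 0x319bdab49ca307b9ac5a928398a418820)])]

def C_D0 : List ℕ := [(nat_lit 0), (nat_lit 1025), (nat_lit 1537), (nat_lit 2049), (nat_lit 3073), (nat_lit 3585), (nat_lit 3329), (nat_lit 140290), (nat_lit 150530), (nat_lit 160258), (nat_lit 169218), (nat_lit 195586), (nat_lit 208386), (nat_lit 218370), (nat_lit 251394), (nat_lit 262402), (nat_lit 298498), (nat_lit 333826), (nat_lit 347650), (nat_lit 362754), (nat_lit 433666), (nat_lit 478722), (nat_lit 617730), (nat_lit 701698), (nat_lit 0), (nat_lit 40319747), (nat_lit 33326339), (nat_lit 27803395), (nat_lit 37369091), (nat_lit 7104801540), (nat_lit 7674448132), (nat_lit 8547789060), (nat_lit 9496377092), (nat_lit 10775830788), (nat_lit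 11582470404), (nat_lit 12742672132), (nat_lit 0), (nat_lit 1115286308613), (nat_lit 1216021548805), (nat_lit 1325132666117), (nat_lit 193607103030022), (nat_lit 219086632992518), (nat_lit 247456794359558), (nat_lit 273340044156166), (nat_lit 307220868243718), (nat_lit 344729834747654), (nat_lit 385978689855238), (nat_lit 0), (nat_lit 0xa2a0d2580aab07), (nat_lit 456340997402374), (nat_lit 0xc8b20911f4c707), (nat_lit 0x114e9669222cb07), (nat_lit 0), (nat_lit 0x4e2612c044e4086509), (nat_lit 0xbaf67265d352c108), (nat_lit 0x652389fc81d5981109), (nat_lit 0), (nat_lit 0x48f32a324b458a4d610a), (nat_lit 0x510c0b836a308600630a), (nat_lit 0), (nat_lit 513)]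

def C_L1 : List (ℕ × List ℕ) := [((nat_lit 3), [(nat_lit 0x338bdab49ca307b9ac5a928398a418820), (nat_lit 0x338b5e957c17299d028942d7014323126), (nat_lit 0x33872e959b4b07de4cb28c83a62408062), (nat_lit 0x3388adf3a22edaba04b2932398ac10c20), (nat_lit 0x3385d2f1286c272812abe039a0ed32584), (nat_lit 0x338ac5763b28953c81bb84628e604424d), (nat_lit 0x3385c66fab6c8a1e43b94307014261126), (nat_lit 0x338a2e3770aa12cc69b1d80511e66ca08), (nat_lit 0x3388d6cb526ec394d0a4e447b5c800443), (nat_lit 0x3383c6b47a1529da02b940d705634988c), (nat_lit 0x3387decb39269555818b86628a8093510), (nat_lit 0x338a5d47b1aa45bd208b84c28e618224d)]),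
  ((nat_lit 11), [(nat_lit 0x338bdab49ca307b9ac5a928398a418820), (nat_lit 0x338b54ae525603c4c87d2019b6f21888c), (nat_lit 0x33875547992f07c586a5a485b4a918402), (nat_lit 0x3382deca391c95d0c08ce4c7b6a118910), (nat_lit 0x3388aacb9a5d07dccd3d488a30b218041), (nat_lit 0x3388969354ac03ad0d7552179af019182), (nat_lit 0x338a5a6f384a95b80d55c8c89ab21a202), (nat_lit 0x3382bab65a632a1da2bcc867b14018510), (nat_lit 0x3385d2af542203d9a699641722e91b044), (nat_lit 0x3383d66f580b2a444cb3926bb5441a201), (nat_lit 0x3385aa6fa08a43dc26ac64d732c91a200), (nat_lit 0x338ad2d78c9c453cc229c2d582701a189)]),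
  ((nat_lit 13), [(nat_lit 0x338bdab49ca307b9ac5a928398a418820), (nat_lit 0x338515d73c1e69d1805c449b36b218488), (nat_lit 0x338b4eaeb9142894cc5bd30382811a24d), (nat_lit 0x3389dea5b05e85500c5c5223b5d21c086), (nat_lit 0x3383bcb5a06e955a0d5c5129b1c218086), (nat_lit 0x3383a9d5292698dd005bc41b329019a4d), (nat_lit 0x3383c69574ac97cc465aa04bb0a81b420), (nat_lit 0x3389c6c570a88b9e465a8047b6a91b030), (nat_lit 0x338b468eac8e27a9285cc24282e61b60c), (nat_lit 0x338b3eeea40a299c2d5c4d2502a91b088), (nat_lit 0x338baa742a1d0b1c805bda189aa91b242)]),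
  ((nat_lit 10), [(nat_lit 0x338bdab49ca307b9ac5a928398a418820), (nat_lit 0x3388bac79a54ca55a65dc087c0a119052), (nat_lit 0x33829dd454a217d5a05cc46b22e41a60c), (nat_lit 0x338555cf982e63d9b05c648a30a218489), (nat_lit 0x3388d4f650a60a39a859586786f019132)]),
  ((nat_lit 19), [(nat_lit 0x338bdab49ca307b9ac5a928398a418820), (nat_lit 0x338bbdd628a69a1db25a881a9a301b008), (nat_lit 0x3389d6d4b98a873da25a9303ca201b024), (nat_lit 0x338bd0ef8b0a4b55a25aa0071a691c901)]),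
  ((nat_lit 20), [(nat_lit 0x338bdab49ca307b9ac5a928398a418820), (nat_lit 0x3388bdd59c8a13d1a25a809b32f019888), (nat_lit 0x33829e8e9cae4b55a65a90078a211b209)]),
  ((nat_lit 24), [(nat_lit 0x338bdab49ca307b9ac5a928398a418820), (nat_lit 0x319bdab49ca307b9ac5a928398a418820)])]

def C_D1 : List ℕ := [(nat_lit 0), (nat_lit 1025), (nat_lit 1537), (nat_lit 2049), (nat_lit 3073), (nat_lit 3329), (nat_lit 108546), (nat_lit 117762), (nat_lit 126210), (nat_lit 148482), (nat_lit 160002), (nat_lit 187650), (nat_lit 0), (nat_lit 12395779), (nat_lit 10951939), (nat_lit 10044163), (nat_lit 13136643), (nat_lit 1206908164), (nat_lit 1356948740), (nat_lit 1600561412), (nat_lit 1876834564), (nat_lit 2267302148), (nat_lit 2518271748), (nat_lit 2894000900), (nat_lit 0), (nat_lit 173822799621), (nat_lit 196079256325), (nat_lit 220890627333), (nat_lit 28681619484422), (nat_lit 33961114638086), (nat_lit 40074165439238), (nat_lit 45831752158470),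 (nat_lit 53599092690182), (nat_lit 62499078586118), (nat_lit 72597521928966), (nat_lit 0), (nat_lit 0x17b8a4052ebb07), (nat_lit 89784926725894), (nat_lit 0x1f2673411c6707), (nat_lit 0x2fd3434106db07), (nat_lit 0), (nat_lit 0x8e08aa7c3f75cb909), (nat_lit 0x1bf78174127fdd08), (nat_lit 0xc4d44b3e6e45e8d09), (nat_lit 0), (nat_lit 0x7c874e45eb17df9190a), (nat_lit 0x8ded778ee8e85d3370a), (nat_lit 0), (nat_lit 513)]

def C_L2 : List (ℕ × List ℕ) := [((nat_lit 3), [(nat_lit 0x338bdab49ca307b9ac5a928398a418820), (nat_lit 0x338b5e957c17299d028942d7014323126), (nat_lit 0x33872e959b4b07de4cb28c83a62408062), (nat_lit 0x3388adf3a22edaba04b2932398ac10c20), (nat_lit 0x3385d2f1286c272812abe039a0ed32584), (nat_lit 0x338ac5763b28953c81bb84628e604424d), (nat_lit 0x3385c66fab6c8a1e43b94307014261126), (nat_lit 0x338a2e3770aa12cc69b1d80511e66ca08), (nat_lit 0x3388d6cb526ec394d0a4e447b5c800443), (nat_lit 0x3383c6b47a1529da02b940d705634988c),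 (nat_lit 0x3387decb39269555818b86628a8093510), (nat_lit 0x338a5d47b1aa45bd208b84c28e618224d)]),
  ((nat_lit 11), [(nat_lit 0x338bdab49ca307b9ac5a928398a418820), (nat_lit 0x338b54ae525603c4c87d2019b6f21888c), (nat_lit 0x33875547992f07c586a5a485b4a918402), (nat_lit 0x3382deca391c95d0c08ce4c7b6a118910), (nat_lit 0x3388aacb9a5d07dccd3d488a30b218041), (nat_lit 0x3388969354ac03ad0d7552179af019182), (nat_lit 0x338a5a6f384a95b80d55c8c89ab21a202), (nat_lit 0x3382bab65a632a1da2bcc867b14018510), (nat_lit 0x3385d2af542203d9a699641722e91b044), (nat_lit 0x3383d66f580b2a444cb3926bb5441a201), (nat_lit 0x3385aa6fa08a43dc26ac64d732c91a200), (nat_lit 0x338ad2d78c9c453cc229c2d582701a189)]),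
  ((nat_lit 13), [(nat_lit 0x338bdab49ca307b9ac5a928398a418820), (nat_lit 0x338515d73c1e69d1805c449b36b218488), (nat_lit 0x338b4eaeb9142894cc5bd30382811a24d), (nat_lit 0x3389dea5b05e85500c5c5223b5d21c086), (nat_lit 0x3383bcb5a06e955a0d5c5129b1c218086), (nat_lit 0x3383a9d5292698dd005bc41b329019a4d), (nat_lit 0x3383c69574ac97cc465aa04bb0a81b420), (nat_lit 0x3389c6c570a88b9e465a8047b6a91b030), (nat_lit 0x338b468eac8e27a9285cc24282e61b60c), (nat_lit 0x338b3eeea40a299c2d5c4d2502a91b088), (nat_lit 0x338baa742a1d0b1c805bda189aa91b242)]),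
  ((nat_lit 10), [(nat_lit 0x338bdab49ca307b9ac5a928398a418820), (nat_lit 0x3388bac79a54ca55a65dc087c0a119052), (nat_lit 0x33829dd454a217d5a05cc46b22e41a60c), (nat_lit 0x338555cf982e63d9b05c648a30a218489), (nat_lit 0x3388d4f650a60a39a859586786f019132)]),
  ((nat_lit 19), [(nat_lit 0x338bdab49ca307b9ac5a928398a418820), (nat_lit 0x338bbdd628a69a1db25a881a9a301b008), (nat_lit 0x3389d6d4b98a873da25a9303ca201b024), (nat_lit 0x338bd0ef8b0a4b55a25aa0071a691c901)]),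
  ((nat_lit 20), [(nat_lit 0x338bdab49ca307b9ac5a928398a418820), (nat_lit 0x3388bdd59c8a13d1a25a809b32f019888), (nat_lit 0x33829e8e9cae4b55a65a90078a211b209)])]

def C_D2 : List ℕ := [(nat_lit 0), (nat_lit 513), (nat_lit 1025), (nat_lit 1537), (nat_lit 2561), (nat_lit 2817), (nat_lit 87554), (nat_lit 95746), (nat_lit 103170), (nat_lit 123394), (nat_lit 133890), (nat_lit 159490), (nat_lit 0), (nat_lit 10433283), (nat_lit 9099011), (nat_lit 8232707), (nat_lit 11010819), (nat_lit 1011987204), (nat_lit 1143196932), (nat_lit 1358188292), (nat_lit 1603302148), (nat_lit 1951457028), (nat_lit 2175766276), (nat_lit 2513075972), (nat_lit 0), (nat_lit 145460717317), (nat_lit 164693927685), (nat_lit 186215844101), (nat_lit 24063547468550), (nat_lit 28633145491206), (nat_lit 33946588192518), (nat_lit 38968116550918), (nat_lit 45764320776454), (nat_lit 53579894855430), (nat_lit 62477055252230), (nat_lit 0), (nat_lit 0x13f46ba1eefb07),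 (nat_lit 77611466927878), (nat_lit 0x1a5ee7bcbb6707), (nat_lit 0x28f260cd37bb07), (nat_lit 0), (nat_lit 0x754d06d954b4a9d09), (nat_lit 0x17ac18b22ebd3908), (nat_lit 0xa3a9b7a7f3f619909), (nat_lit 0), (nat_lit 0x667c3dc7bc39036b10a), (nat_lit 0x751858c59630994cb0a)]

def C_L3 : List (ℕ × List ℕ) := [((nat_lit 19), [(nat_lit 0x338bdab49ca307b9ac5a928398a418820), (nat_lit 0x338b5e957c17299d028942d7014323126), (nat_lit 0x3388adf3a22edaba04b2932398ac10c20), (nat_lit 0x3385c66fab6c8a1e43b94307014261126)]),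
  ((nat_lit 18), [(nat_lit 0x338bdab49ca307b9ac5a928398a418820), (nat_lit 0x338596959a2d279e0175c4d88d40230c9), (nat_lit 0x338b15f59b572a46007292839ae123062), (nat_lit 0x338546959c0ed7ad02b9412706c332584)]),
  ((nat_lit 3), [(nat_lit 0x338bdab49ca307b9ac5a928398a418820), (nat_lit 0x33855df59c8eda15028ad90b11c349801), (nat_lit 0x33852eaf9c8f0a390cb5c4d88ca432401), (nat_lit 0x338b1e8f9c968a960955c6d889c623001), (nat_lit 0x3385aa8f9cac8aba063c44db8ca961020), (nat_lit 0x338baa959ca28795a93d990591c610c20)]),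
  ((nat_lit 12), [(nat_lit 0x338bdab49ca307b9ac5a928398a418820), (nat_lit 0x33889e959cae87b9a652c90b30a918801)]),
  ((nat_lit 24), [(nat_lit 0x338bdab49ca307b9ac5a928398a418820), (nat_lit 0x319bdab49ca307b9ac5a928398a418820)])]

def C_D3 : List ℕ := [(nat_lit 0), (nat_lit 1025), (nat_lit 2049), (nat_lit 66562), (nat_lit 0), (nat_lit 2268419), (nat_lit 2561), (nat_lit 2820355), (nat_lit 0), (nat_lit 5102575877), (nat_lit 215554), (nat_lit 9057884933), (nat_lit 474916937478), (nat_lit 11345411), (nat_lit 0), (nat_lit 656719620), (nat_lit 0), (nat_lit 513)]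

def C_L4 : List (ℕ × List ℕ) := [((nat_lit 19), [(nat_lit 0x338bdab49ca307b9ac5a928398a418820), (nat_lit 0x338b5e957c17299d028942d7014323126), (nat_lit 0x3388adf3a22edaba04b2932398ac10c20), (nat_lit 0x3385c66fab6c8a1e43b94307014261126)]),
  ((nat_lit 18), [(nat_lit 0x338bdab49ca307b9ac5a928398a418820), (nat_lit 0x338596959a2d279e0175c4d88d40230c9), (nat_lit 0x33872e959b4b07de4cb28c83a62408062), (nat_lit 0x338546959c0ed7ad02b9412706c332584)]),
  ((nat_lit 3), [(nat_lit 0x338bdab49ca307b9ac5a928398a418820), (nat_lit 0x338baa959ca28795a93d990591c610c20)]),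
  ((nat_lit 12), [(nat_lit 0x338bdab49ca307b9ac5a928398a418820), (nat_lit 0x33889e959cae87b9a652c90b30a918801)]),
  ((nat_lit 24), [(nat_lit 0x338bdab49ca307b9ac5a928398a418820), (nat_lit 0x319bdab49ca307b9ac5a928398a418820)])]

def C_D4 : List ℕ := [(nat_lit 0), (nat_lit 1025), (nat_lit 2049), (nat_lit 51202), (nat_lit 0), (nat_lit 1672963), (nat_lit 1537), (nat_lit 2111747), (nat_lit 0), (nat_lit 4866307), (nat_lit 0), (nat_lit 5297411), (nat_lit 0), (nat_lit 513)]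

def C_L5 : List (ℕ × List ℕ) := [((nat_lit 19), [(nat_lit 0x338bdab49ca307b9ac5a928398a418820), (nat_lit 0x338b5e957c17299d028942d7014323126), (nat_lit 0x3388adf3a22edaba04b2932398ac10c20), (nat_lit 0x3385c66fab6c8a1e43b94307014261126)]),
  ((nat_lit 18), [(nat_lit 0x338bdab49ca307b9ac5a928398a418820), (nat_lit 0x338596959a2d279e0175c4d88d40230c9), (nat_lit 0x33872e959b4b07de4cb28c83a62408062), (nat_lit 0x338546959c0ed7ad02b9412706c332584)]),
  ((nat_lit 3), [(nat_lit 0x338bdab49ca307b9ac5a928398a418820), (nat_lit 0x338baa959ca28795a93d990591c610c20)]),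
  ((nat_lit 12), [(nat_lit 0x338bdab49ca307b9ac5a928398a418820), (nat_lit 0x33889e959cae87b9a652c90b30a918801)])]

def C_D5 : List ℕ := [(nat_lit 0), (nat_lit 513), (nat_lit 1537), (nat_lit 37378), (nat_lit 0), (nat_lit 1182979), (nat_lit 1025), (nat_lit 1518851), (nat_lit 0), (nat_lit 3839747), (nat_lit 0), (nat_lit 4182787)]

def C_L6 : List (ℕ × List ℕ) := [((nat_lit 19), [(nat_lit 0x338bdab49ca307b9ac5a928398a418820), (nat_lit 0x3388adf3a22edaba04b2932398ac10c20), (nat_lit 0x3382d9f3aa1d2a5e045a8cd3a62c00462), (nat_lit 0x3382aeb47c9c89c5acb28d03a6e400443)]),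
  ((nat_lit 18), [(nat_lit 0x338bdab49ca307b9ac5a928398a418820), (nat_lit 0x33829eb49b5c87de49558905b22608043)]),
  ((nat_lit 3), [(nat_lit 0x338bdab49ca307b9ac5a928398a418820), (nat_lit 0x3388aeb49caf0795a4b1cc8525cc10c01)]),
  ((nat_lit 12), [(nat_lit 0x338bdab49ca307b9ac5a928398a418820), (nat_lit 0x33889e959cae87b9a652c90b30a918801)]),
  ((nat_lit 24), [(nat_lit 0x338bdab49ca307b9ac5a928398a418820), (nat_lit 0x319bdab49ca307b9ac5a928398a418820)])]

def C_D6 : List ℕ := [(nat_lit 0), (nat_lit 1537), (nat_lit 44034), (nat_lit 58882), (nat_lit 0), (nat_lit 1477891), (nat_lit 0), (nat_lit 72895748), (nat_lit 0), (nat_lit 34050), (nat_lit 0), (nat_lit 513)]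

def C_L7 : List (ℕ × List ℕ) := [((nat_lit 9), [(nat_lit 0x338bdab49ca307b9ac5a928398a418820), (nat_lit 0x3388aeb49caf0795a4b1cc8525cc10c01)]),
  ((nat_lit 4), [(nat_lit 0x338bdab49ca307b9ac5a928398a418820), (nat_lit 0x3388adf3a22edaba04b2932398ac10c20)]),
  ((nat_lit 3), [(nat_lit 0x338bdab49ca307b9ac5a928398a418820), (nat_lit 0x3388da957b6e89964c5a930399c410c01)]),
  ((nat_lit 24), [(nat_lit 0x338bdab49ca307b9ac5a928398a418820), (nat_lit 0x319bdab49ca307b9ac5a928398a418820)])]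

def C_D7 : List ℕ := [(nat_lit 0), (nat_lit 1025), (nat_lit 0), (nat_lit 2049), (nat_lit 0), (nat_lit 34050), (nat_lit 0), (nat_lit 513)]

def C_L8 : List (ℕ × List ℕ) := [((nat_lit 12), [(nat_lit 0x338bdab49ca307b9ac5a928398a418820), (nat_lit 0x3388aeb49caf0795a4b1cc8525cc10c01)]),
  ((nat_lit 13), [(nat_lit 0x338bdab49ca307b9ac5a928398a418820), (nat_lit 0x3388da957b6e89964c5a930399c410c01)])]

def C_D8 : List ℕ := [(nat_lit 0), (nat_lit 513), (nat_lit 0), (nat_lit 14594)]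

def C_L9 : List (ℕ × List ℕ) := [((nat_lit 12), [(nat_lit 0x338bdab49ca307b9ac5a928398a418820), (nat_lit 0x3388aeb49caf0795a4b1cc8525cc10c01)]),
  ((nat_lit 24), [(nat_lit 0x338bdab49ca307b9ac5a928398a418820), (nat_lit 0x319bdab49ca307b9ac5a928398a418820)]),
  ((nat_lit 13), [(nat_lit 0x338bdab49ca307b9ac5a928398a418820), (nat_lit 0x3388da957b6e89964c5a930399c410c01)])]

def C_D9 : List ℕ := [(nat_lit 0), (nat_lit 1025), (nat_lit 0), (nat_lit 513), (nat_lit 0), (nat_lit 30466)]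

def C_L10 : List (ℕ × List ℕ) := [((nat_lit 10), [(nat_lit 0x338bdab49ca307b9ac5a928398a418820), (nat_lit 0x338b5e957c17299d028942d7014323126), (nat_lit 0x3385d2f1286c272812abe039a0ed32584), (nat_lit 0x338ac5763b28953c81bb84628e604424d), (nat_lit 0x3385bab47c2cd99d002c472b8941230c9), (nat_lit 0x3382daafa49cd99d0c5dc708894408126), (nat_lit 0x338a2e3770aa12cc69b1d80511e66ca08), (nat_lit 0x338b95f4ab63099d00758925b14118926), (nat_lit 0x3388d6cb526ec394d0a4e447b5c800443), (nat_lit 0x338b4e3728563728087d5a2a48f03248c), (nat_lit 0x338756cbb8cac8a84d7d2449a0f032401), (nat_lit 0x338a3a37389e9554642ac06b066c43612)]),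
  ((nat_lit 7), [(nat_lit 0x338bdab49ca307b9ac5a928398a418820), (nat_lit 0x33899ef1aa1e0a3a06b2921590ac18a4d), (nat_lit 0x338aae6fb868d8b8043a932b30a618910), (nat_lit 0x338b1eafbb1728d0807282829a6983443), (nat_lit 0x33829eb4b8626758649a9897c1686c802), (nat_lit 0x338b96cbaa2237d2463a8227266083584), (nat_lit 0x338bbcb1aa5c2a58d03a9809a1646c823), (nat_lit 0x3382aef19c9e471c6caa8c9a02c1821a2), (nat_lit 0x33859eeeaa684b4db02a90c88de1100d2), (nat_lit 0x3389d0afba5c289c805a8cda86cc82243), (nat_lit 0x338ac4b49a5c27ad8db2890bc8e600503)]),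
  ((nat_lit 0), [(nat_lit 0x338bdab49ca307b9ac5a928398a418820), (nat_lit 0x338abaf1b09e45d0692a82c3826683512), (nat_lit 0x338aceee282838d8487a981391706c926), (nat_lit 0x338bd2af735662c6019a9093cac020d82), (nat_lit 0x3382d236bb1c45bc489a823382b249a0d), (nat_lit 0x338b96b6599cda4e418a9093c1e310184), (nat_lit 0x338b3a747c96dadd012a93039a2023043), (nat_lit 0x3388bcaea19729d921aaa083b6e02086c), (nat_lit 0x338aaef3792c271409a282c38e2d91910), (nat_lit 0x3387ae74880a2b3828ba88c38eb233609), (nat_lit 0x338a4576711e02cd89ba86138aa6849a8), (nat_lit 0x338596d17ca6d7510caa8c93c2e200c81)]),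
  ((nat_lit 1), [(nat_lit 0x338bdab49ca307b9ac5a928398a418820), (nat_lit 0x338a96767a6865c602ba9a83c9c161060), (nat_lit 0x3385d2f1a99cd995237aa483c2c20b080), (nat_lit 0x3389b9e55b6d2bd0c4aaa083a62310580), (nat_lit 0x3382ceb7721f25d92c8a8d03b68119040)]),
  ((nat_lit 17), [(nat_lit 0x338bdab49ca307b9ac5a928398a418820), (nat_lit 0x338b466e29ae8a3e425aa093b6a460c20), (nat_lit 0x338bc4b57c16974cc2b2a4d3a28c19020), (nat_lit 0x3388dcafab6c9750c35a9103ca6413020)]),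
  ((nat_lit 23), [(nat_lit 0x338bdab49ca307b9ac5a928398a418820), (nat_lit 0x3385de8e29a329d503b29a93c1ec20820), (nat_lit 0x338b2dd57c2262d124ba90d3ca6360820)]),
  ((nat_lit 24), [(nat_lit 0x338bdab49ca307b9ac5a928398a418820), (nat_lit 0x319bdab49ca307b9ac5a928398a418820)])]

def C_D10 : List ℕ := [(nat_lit 0), (nat_lit 1025), (nat_lit 3073), (nat_lit 3329), (nat_lit 91650), (nat_lit 100866), (nat_lit 109570), (nat_lit 117506), (nat_lit 126210), (nat_lit 149506), (nat_lit 159234), (nat_lit 187138), (nat_lit 0), (nat_lit 13214467), (nat_lit 8255235), (nat_lit 890177284), (nat_lit 1008706308), (nat_lit 1210373892), (nat_lit 1358153476), (nat_lit 1678088964), (nat_lit 1870797572), (nat_lit 2273723140), (nat_lit 2513106692), (nat_lit 0), (nat_lit 35495683), (nat_lit 23160067), (nat_lit 4603354884), (nat_lit 23319135920390), (nat_lit 5647407876), (nat_lit 32998146704646), (nat_lit 37831988040454), (nat_lit 7899087108),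 (nat_lit 9046068996), (nat_lit 9735484676), (nat_lit 11071774468), (nat_lit 0), (nat_lit 958101795589), (nat_lit 1109207301381), (nat_lit 131151144587014), (nat_lit 145913945995526), (nat_lit 0), (nat_lit 963975793925), (nat_lit 0x474366f6fd2f07), (nat_lit 1131037016325), (nat_lit 0), (nat_lit 0x7144cf16d96b07), (nat_lit 0x7ef88cbd130107), (nat_lit 0), (nat_lit 513)]

def C_L11 : List (ℕ × List ℕ) := [((nat_lit 12), [(nat_lit 0x338bdab49ca307b9ac5a928398a418820), (nat_lit 0x338b15f59b572a46007292839ae123062), (nat_lit 0x3382de8f9c1cdaae428a92839ac30808c)])]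

def C_D11 : List ℕ := [(nat_lit 0), (nat_lit 513), (nat_lit 769)]

def C_L12 : List (ℕ × List ℕ) := [((nat_lit 25), [(nat_lit 0x338bdab49ca307b9ac5a928398a418820), (nat_lit 0x319bdab49ca307b9ac5a928398a418820)]),
  ((nat_lit 9), [(nat_lit 0x338bdab49ca307b9ac5a928398a418820), (nat_lit 0x33872e959b4b07de4cb28c83a62408062)]),
  ((nat_lit 15), [(nat_lit 0x338bdab49ca307b9ac5a928398a418820), (nat_lit 0x338b15f59b572a46007292839ae123062), (nat_lit 0x3388adf3a22edaba04b2932398ac10c20), (nat_lit 0x338596afa42c89dda07293239a2161043)]),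
  ((nat_lit 11), [(nat_lit 0x338bdab49ca307b9ac5a928398a418820), (nat_lit 0x3385ba93aa2d07c6412a92d39ae061062), (nat_lit 0x3382c675a35d07d903ba9323996208184)])]

def C_D12 : List ℕ := [(nat_lit 0), (nat_lit 513), (nat_lit 0), (nat_lit 1025), (nat_lit 0), (nat_lit 2049), (nat_lit 1537), (nat_lit 124418), (nat_lit 0), (nat_lit 159746), (nat_lit 75010)]

def C : PM :=
  ⟨(nat_lit 26), (nat_lit 5), [(nat_lit 0x319bdab49ca307b9ac5a928398a418820), (nat_lit 0x338b5e957c17299d028942d7014323126), (nat_lit 0x33872e959b4b07de4cb28c83a62408062), (nat_lit 0x3388adf3a22edaba04b2932398ac10c20), (nat_lit 0x338b15f59b572a46007292839ae123062), (nat_lit 0x3385d2f1286c272812abe039a0ed32584), (nat_lit 0x338bdab49ca307b9ac5a928398a418820), (nat_lit 0x338bdab49ca307b9ac5a928398a418820), (nat_lit 0x338bdab49ca307b9ac5a928398a418820), (nat_lit 0x3380924d4540f80a8b6255331c762baf1)],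
    [[.l 1, .l 2, .l 3, .l 4, .l 5, .l 6, .l 10],
    [.l 1, .l 2, .l 3, .l 4, .l 5, .l 6],
    [.l 2, .l 3, .l 4, .l 5, .l 6],
    [.l 1, .l 2, .l 3, .l 4, .l 5],
    [.l 1, .l 2, .l 3, .l 4],
    [.l 2, .l 3, .l 4],
    [.l 1, .l 3, .l 4, .mul (.mul (.l 2) (.l 3)) (.l 2)],
    [.l 1, .pow (.mul (.l 3) (.mul (.mul (.l 2) (.l 3)) (.l 2))) 2, .pow (.mul (.l 4) (.mul (.mul (.l 2) (.l 3)) (.l 2))) 2, .l 4],
    [.pow (.mul (.l 3) (.mul (.mul (.l 2) (.l 3)) (.l 2))) 2, .pow (.mul (.l 4) (.mul (.mul (.l 2) (.l 3)) (.l 2))) 2],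
    [.l 1, .pow (.mul (.l 3) (.mul (.mul (.l 2) (.l 3)) (.l 2))) 2, .pow (.mul (.l 4) (.mul (.mul (.l 2) (.l 3)) (.l 2))) 2],
    [.l 1, .l 2, .l 3, .l 4, .l 5, .l 6],
    [.l 5],
    [.l 1, .l 3, .l 4, .l 5]],
    [C_L0, C_L1, C_L2, C_L3, C_L4, C_L5, C_L6, C_L7, C_L8, C_L9, C_L10, C_L11, C_L12], [C_D0, C_D1, C_D2, C_D3, C_D4, C_D5, C_D6, C_D7, C_D8, C_D9, C_D10, C_D11, C_D12]⟩

instance C_ne : NeZero C.n := ⟨by decide⟩

theorem C_ok0 : C.ok0 = true := by decide +kernel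

theorem C_ch0 : Ch C 0 := ch_of_okS C_ok0 (by decide +kernel)

theorem C_ch1 : Ch C 1 := ch_of_okS C_ok0 (by decide +kernel)

theorem C_ch2 : Ch C 2 := ch_of_okS C_ok0 (by decide +kernel)

theorem C_ch3 : Ch C 3 := ch_of_okS C_ok0 (by decide +kernel)

theorem C_ch4 : Ch C 4 := ch_of_okS C_ok0 (by decide +kernel)

theorem C_ch5 : Ch C 5 := ch_of_okS C_ok0 (by decide +kernel)

theorem C_ch6 : Ch C 6 := ch_of_okS C_ok0 (by decide +kernel)

theorem C_ch7 : Ch C 7 := ch_of_okS C_ok0 (by decide +kernel)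

theorem C_ch8 : Ch C 8 := ch_of_okS C_ok0 (by decide +kernel)

theorem C_ch9 : Ch C 9 := ch_of_okS C_ok0 (by decide +kernel)

theorem C_ch10 : Ch C 10 := ch_of_okO C_ok0 (by decide +kernel) ((C_ch1.card (inj_finPt _)).trans (by decide +kernel)).le

theorem C_ch11 : Ch C 11 := ch_of_okS C_ok0 (by decide +kernel)

theorem C_ch12 : Ch C 12 := ch_of_okS C_ok0 (by decide +kernel)

theorem C_ok : C.OK := ok_of_ch C_ok0
  (forall_lt_succ (forall_lt_succ (forall_lt_succ (forall_lt_succ (forall_lt_succ (forall_lt_succ (forall_lt_succ (forall_lt_succ (forall_lt_succ (forall_lt_succ (forall_lt_succ (forall_lt_succ (forall_lt_succ forall_lt_zero C_ch0) C_ch1) C_ch2) C_ch3) C_ch4) C_ch5) C_ch6) C_ch7) C_ch8) C_ch9) C_ch10) C_ch11) C_ch12)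

def m24_L0 : List (ℕ × List ℕ) := [((nat_lit 18), [(nat_lit 0xbdab49ca307b9ac5a928398a418820), (nat_lit 0xb5e957c17299d028942d7014323126), (nat_lit 0x72e959b4b07de4cb28c83a62408062), (nat_lit 0x8adf3a22edaba04b2932398ac10c20), (nat_lit 0x5d2f1286c272812abe039a0ed32584), (nat_lit 0xac5763b28953c81bb84628e604424d), (nat_lit 0xa2e3770aa12cc69b1d80511e66ca08), (nat_lit 0x8d6cb526ec394d0a4e447b5c800443), (nat_lit 0x55637280e272c32a3d039c2cd610c9), (nat_lit 0x7decb39269555818b86628a8093510), (nat_lit 0xb55c588d60ba84da3e019a0f249984), (nat_lit 0xa5d47b1aa45bd208b84c28e618224d)]),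
  ((nat_lit 20), [(nat_lit 0xbdab49ca307b9ac5a928398a418820), (nat_lit 0x59e937cad0add065140d7062923062), (nat_lit 0xb466f2c8e2729a8bd003a8570224cc), (nat_lit 0x745f5a48b099d02bac8db3143080c9), (nat_lit 0x5dceaacac4a3da02b84c88663440c9), (nat_lit 0xbd5e574a229d861a2d8d518e082089), (nat_lit 0x89cae5caa9551a3b3d8499ae280028), (nat_lit 0x7da8754a64ac5905946db81c832422), (nat_lit 0xbbacb7ca23acd0951c0229a816c184), (nat_lit 0x5d2b1bcacc79c839a8c8285c283520), (nat_lit 0xb3a3754a802cd043d4c97856c8086d), (nat_lit 0x9c6b65ca8379450ba828724ed610c0)]),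
  ((nat_lit 10), [(nat_lit 0xbdab49ca307b9ac5a928398a418820), (nat_lit 0x3de34b49c42bd905542958e62020cd), (nat_lit 0x5d8f49cae053c248ba082b6a3608c9), (nat_lit 0xb4d542caac7440d3ad02b85f031123), (nat_lit 0x8d8b49c969728c3bbc08a84ec209b0), (nat_lit 0x59dd4bc9e299604ac4c1502c86a46c), (nat_lit 0x2aef4b49e3aa88071cd08b2624a1a1), (nat_lit 0xac574b494c3b869795a0b926282026), (nat_lit 0xb4df43c8a352e06add028b5c90b004), (nat_lit 0x8b954bcab05bc012cd8d38ac8224c3), (nat_lit 0x995d4bc9e659d8155844a82284b470)]),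
  ((nat_lit 6), [(nat_lit 0xbdab49ca307b9ac5a928398a418820), (nat_lit 0xb55743ca6d7450c2a802792e930603), (nat_lit 0x2ded48c9c13be0caa88d98d6602049), (nat_lit 0xaacb47c8e88cc4cba861726c0241a6), (nat_lit 0xbb9742caac99c228a92db01e434103)]),
  ((nat_lit 7), [(nat_lit 0xbdab49ca307b9ac5a928398a418820), (nat_lit 0x7ddd4ac8e8b4d825a88129a201b609), (nat_lit 0x7d5d4bc9629da083a801898a44b583), (nat_lit 0x9bad47c8edbd4418a86c598a404109)]),
  ((nat_lit 0), [(nat_lit 0xbdab49ca307b9ac5a928398a418820), (nat_lit 0xb3a747c96dadd012a93039a2023043), (nat_lit 0x75df4ac8a89da028a92d3996300584)])]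

def m24_D0 : List ℕ := [(nat_lit 0), (nat_lit 513), (nat_lit 1025), (nat_lit 1537), (nat_lit 2561), (nat_lit 2817), (nat_lit 88578), (nat_lit 96002), (nat_lit 117250), (nat_lit 125698), (nat_lit 150018), (nat_lit 159490), (nat_lit 0), (nat_lit 5996291), (nat_lit 12375299), (nat_lit 6423299), (nat_lit 10021635), (nat_lit 963235076), (nat_lit 1150260484), (nat_lit 1356923140), (nat_lit 1593623812), (nat_lit 1866354436), (nat_lit 2170932996), (nat_lit 2509628164), (nat_lit 0), (nat_lit 206106646789), (nat_lit 182410635013), (nat_lit 244359174405), (nat_lit 209619121925), (nat_lit 27010629304582), (nat_lit 31002837913350), (nat_lit 35513870509318), (nat_lit 43167045480198), (nat_lit 55209984813318), (nat_lit 64280345634566), (nat_lit 0), (nat_lit 0x173605b223cf07), (nat_lit 0x187fef145e3707), (nat_lit 0xc50da730a9d0b08), (nat_lit 0xe6832796ecb0308), (nat_lit 0), (nat_lit 0x2c486ad9d42f07), (nat_lit 0x8e22eba9da2c4b509),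 (nat_lit 0x9fecfc081d196eb09), (nat_lit 0), (nat_lit 0x27759679a9b66708), (nat_lit 0x1e257e5108d6f908)]

def m24 : PM :=
  ⟨(nat_lit 24), (nat_lit 5), [(nat_lit 0xbdab49ca307b9ac5a928398a418820), (nat_lit 0xb5e957c17299d028942d7014323126), (nat_lit 0x72e959b4b07de4cb28c83a62408062), (nat_lit 0x8adf3a22edaba04b2932398ac10c20), (nat_lit 0xb15f59b572a46007292839ae123062), (nat_lit 0x5d2f1286c272812abe039a0ed32584)],
    [[.l 2, .l 3, .l 4, .l 5, .l 6]],
    [m24_L0], [m24_D0]⟩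

instance m24_ne : NeZero m24.n := ⟨by decide⟩

theorem m24_ok0 : m24.ok0 = true := by decide +kernel

theorem m24_ch0 : Ch m24 0 := ch_of_okS m24_ok0 (by decide +kernel)

theorem m24_ok : m24.OK := ok_of_ch m24_ok0
  (forall_lt_succ forall_lt_zero m24_ch0)

/-- a formula -/
def C_cZ_f : Fm := .all 10 40 [(.pow (.mul (.l 3) (.mul (.mul (.l 2) (.l 3)) (.l 2))) 2, .pow (.mul (.l 3) (.mul (.mul (.l 2) (.l 3)) (.l 2))) 2)] (.mem 3 (.l 40))

theorem C_cZ_ev : C.eval C_cZ_f = true := by decide +kernel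

theorem C_cZ {G : Type*} [Group G] {γ : ℕ → G} {k : ℕ} {N : List W} (g : Gf C γ k N)
    (e : tyB C k N C_cZ_f = true := by decide +kernel) :
    ∀ d ∈ genW γ (C.ws 10), d * zz γ = zz γ * d → d ∈ genW γ (C.ws 3) :=
  g.transfer e C_cZ_ev

/-- a formula -/
def C_cen_f : Fm := .all 3 40 [(.l 2, .l 2), (.l 3, .l 3), (.l 6, .l 6)] (.or (.one (.l 40)) (.eq (.l 40) (.l 1)))

theorem C_cen_ev : C.eval C_cen_f = true := by decide +kernel

theorem C_cen {G : Type*} [Group G] {γ : ℕ → G} {k : ℕ} {N : List W} (g : Gf C γ k N)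
    (e : tyB C k N C_cen_f = true := by decide +kernel) :
    ∀ d ∈ genW γ (C.ws 3), d * γ 2 = γ 2 * d → d * γ 3 = γ 3 * d → d * γ 6 = γ 6 * d → d = 1 ∨ d = γ 1 :=
  g.transfer e C_cen_ev

/-- a formula -/
def C_cU_f : Fm := .all 3 40 [(.pow (.mul (.l 4) (.mul (.mul (.l 2) (.l 3)) (.l 2))) 2, .pow (.mul (.l 4) (.mul (.mul (.l 2) (.l 3)) (.l 2))) 2)] (.mem 6 (.l 40))

theorem C_cU_ev : C.eval C_cU_f = true := by decide +kernel

theorem C_cU {G : Type*} [Group G] {γ : ℕ → G} {k : ℕ} {N : List W} (g : Gf C γ k N)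
    (e : tyB C k N C_cU_f = true := by decide +kernel) :
    ∀ d ∈ genW γ (C.ws 3), d * uu γ = uu γ * d → d ∈ genW γ (C.ws 6) :=
  g.transfer e C_cU_ev

/-- a formula -/
def C_cP_f : Fm := .all 6 40 [(.l 4, .l 4)] (.mem 7 (.l 40))

theorem C_cP_ev : C.eval C_cP_f = true := by decide +kernel

theorem C_cP {G : Type*} [Group G] {γ : ℕ → G} {k : ℕ} {N : List W} (g : Gf C γ k N)
    (e : tyB C k N C_cP_f = true := by decide +kernel) :
    ∀ d ∈ genW γ (C.ws 6), d * γ 4 = γ 4 * d → d ∈ genW γ (C.ws 7) :=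
  g.transfer e C_cP_ev

/-- a formula -/
def C_zT_f : Fm := .all 4 40 [(.l 2, .l 2), (.l 3, .l 3), (.l 4, .l 4)] (.or (.one (.l 40)) (.or (.eq (.l 40) (.l 1)) (.or (.eq (.l 40) (.pow (.mul (.l 3) (.mul (.mul (.l 2) (.l 3)) (.l 2))) 2)) (.eq (.l 40) (.mul (.l 1) (.pow (.mul (.l 3) (.mul (.mul (.l 2) (.l 3)) (.l 2))) 2))))))

theorem C_zT_ev : C.eval C_zT_f = true := by decide +kernel

theorem C_zT {G : Type*} [Group G] {γ : ℕ → G} {k : ℕ} {N : List W} (g : Gf C γ k N)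
    (e : tyB C k N C_zT_f = true := by decide +kernel) :
    ∀ d ∈ genW γ (C.ws 4), d * γ 2 = γ 2 * d → d * γ 3 = γ 3 * d → d * γ 4 = γ 4 * d → d = 1 ∨ d = γ 1 ∨ d = zz γ ∨ d = γ 1 * zz γ :=
  g.transfer e C_zT_ev

/-- a formula -/
def C_zK_f : Fm := .all 3 40 [(.l 2, .l 2), (.l 3, .l 3), (.l 4, .l 4)] (.or (.one (.l 40)) (.or (.eq (.l 40) (.l 1)) (.or (.eq (.l 40) (.pow (.mul (.l 3) (.mul (.mul (.l 2) (.l 3)) (.l 2))) 2)) (.eq (.l 40) (.mul (.l 1) (.pow (.mul (.l 3) (.mul (.mul (.l 2) (.l 3)) (.l 2))) 2))))))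

theorem C_zK_ev : C.eval C_zK_f = true := by decide +kernel

theorem C_zK {G : Type*} [Group G] {γ : ℕ → G} {k : ℕ} {N : List W} (g : Gf C γ k N)
    (e : tyB C k N C_zK_f = true := by decide +kernel) :
    ∀ d ∈ genW γ (C.ws 3), d * γ 2 = γ 2 * d → d * γ 3 = γ 3 * d → d * γ 4 = γ 4 * d → d = 1 ∨ d = γ 1 ∨ d = zz γ ∨ d = γ 1 * zz γ :=
  g.transfer e C_zK_ev

/-- a formula -/
def C_nsq_f : Fm := .all 4 40 [] (.not (.eq (.mul (.l 40) (.l 40)) (.l 1)))

theorem C_nsq_ev : C.eval C_nsq_f = true := by decide +kernel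

theorem C_nsq {G : Type*} [Group G] {γ : ℕ → G} {k : ℕ} {N : List W} (g : Gf C γ k N)
    (e : tyB C k N C_nsq_f = true := by decide +kernel) :
    ∀ d ∈ genW γ (C.ws 4), d * d ≠ γ 1 :=
  g.transfer e C_nsq_ev

/-- a formula -/
def C_sq4_f : Fm := .all 4 40 [] (.imp (.one (.pow (.mul (.l 40) (.l 40)) 2)) (.or (.one (.mul (.l 40) (.l 40))) (.or (.eq (.mul (.l 40) (.l 40)) (.pow (.mul (.l 3) (.mul (.mul (.l 2) (.l 3)) (.l 2))) 2)) (.or (.eq (.mul (.l 40) (.l 40)) (.pow (.mul (.l 4) (.mul (.mul (.l 2) (.l 3)) (.l 2))) 2)) (.eq (.mul (.l 40) (.l 40)) (.mul (.pow (.mul (.l 4) (.mul (.mul (.l 2) (.l 3)) (.l 2))) 2) (.pow (.mul (.l 3) (.mul (.mul (.l 2) (.l 3)) (.l 2))) 2)))))))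

theorem C_sq4_ev : C.eval C_sq4_f = true := by decide +kernel

theorem C_sq4 {G : Type*} [Group G] {γ : ℕ → G} {k : ℕ} {N : List W} (g : Gf C γ k N)
    (e : tyB C k N C_sq4_f = true := by decide +kernel) :
    ∀ d ∈ genW γ (C.ws 4), (d * d) ^ 2 = 1 → d * d = 1 ∨ d * d = zz γ ∨ d * d = uu γ ∨ d * d = uu γ * zz γ :=
  g.transfer e C_sq4_ev

/-- a formula -/
def C_n3_f : Fm := .all 3 40 [] (.imp (.one (.pow (.l 40) 3)) (.imp (.not (.one (.l 40))) (.ex 3 41 [(.l 40, .l 5)] (.tt))))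

theorem C_n3_ev : C.eval C_n3_f = true := by decide +kernel

theorem C_n3 {G : Type*} [Group G] {γ : ℕ → G} {k : ℕ} {N : List W} (g : Gf C γ k N)
    (e : tyB C k N C_n3_f = true := by decide +kernel) :
    ∀ d ∈ genW γ (C.ws 3), d ^ 3 = 1 → d ≠ 1 → ∃ c ∈ genW γ (C.ws 3), c * d = γ 5 * c ∧ True :=
  g.transfer e C_n3_ev

/-- a formula -/
def C_nv_f : Fm := .all 3 40 [(.l 5, .inv (.l 5))] (.imp (.one (.mul (.l 40) (.l 40))) (.ex 11 41 [] (.or (.eq (.mul (.mul (.l 41) (.l 40)) (.inv (.l 41))) (.l 3)) (.or (.eq (.mul (.mul (.l 41) (.l 40)) (.inv (.l 41))) (.mul (.l 3) (.pow (.mul (.l 3) (.mul (.mul (.l 2) (.l 3)) (.l 2))) 2))) (.or (.eq (.mul (.mul (.l 41) (.l 40)) (.inv (.l 41))) (.mul (.l 1) (.l 3))) (.eq (.mul (.mul (.l 41) (.l 40)) (.inv (.l 41))) (.mul (.mul (.l 1) (.l 3)) (.pow (.mul (.l 3) (.mul (.mul (.l 2) (.l 3)) (.l 2))) 2))))))))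

theorem C_nv_ev : C.eval C_nv_f = true := by decide +kernel

theorem C_nv {G : Type*} [Group G] {γ : ℕ → G} {k : ℕ} {N : List W} (g : Gf C γ k N)
    (e : tyB C k N C_nv_f = true := by decide +kernel) :
    ∀ d ∈ genW γ (C.ws 3), d * γ 5 = (γ 5)⁻¹ * d → d * d = 1 → ∃ c ∈ genW γ (C.ws 11), c * d * c⁻¹ = γ 3 ∨ c * d * c⁻¹ = γ 3 * zz γ ∨ c * d * c⁻¹ = γ 1 * γ 3 ∨ c * d * c⁻¹ = γ 1 * γ 3 * zz γ :=
  g.transfer e C_nv_ev

/-- a formula -/
def C_np_f : Fm := .all 3 40 [] (.imp (.one (.mul (.l 40) (.l 40))) (.imp (.not (.one (.l 40))) (.imp (.one (.pow (.mul (.inv (.l 5)) (.l 40)) 3)) (.imp (.or (.one (.pow (.mul (.mul (.inv (.l 5)) (.l 3)) (.l 40)) 2)) (.one (.pow (.mul (.mul (.inv (.l 5)) (.mul (.l 3) (.pow (.mul (.l 3) (.mul (.mul (.l 2) (.l 3)) (.l 2))) 2))) (.l 40)) 2))) (.eq (.l 40) (.l 4))))))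

theorem C_np_ev : C.eval C_np_f = true := by decide +kernel

theorem C_np {G : Type*} [Group G] {γ : ℕ → G} {k : ℕ} {N : List W} (g : Gf C γ k N)
    (e : tyB C k N C_np_f = true := by decide +kernel) :
    ∀ b ∈ genW γ (C.ws 3), b * b = 1 → b ≠ 1 → ((γ 5)⁻¹ * b) ^ 3 = 1 → ((γ 5)⁻¹ * γ 3 * b) ^ 2 = 1 ∨ ((γ 5)⁻¹ * (γ 3 * zz γ) * b) ^ 2 = 1 → b = γ 4 :=
  g.transfer e C_np_ev

/-- a formula -/
def C_nt_f : Fm := .all 3 40 [] (.imp (.one (.mul (.l 40) (.l 40))) (.imp (.one (.pow (.mul (.inv (.l 5)) (.l 40)) 3)) (.imp (.or (.and (.one (.pow (.mul (.mul (.mul (.inv (.l 5)) (.l 4)) (.l 3)) (.l 40)) 2)) (.eq (.pow (.mul (.l 3) (.mul (.mul (.l 40) (.l 3)) (.l 40))) 2) (.pow (.mul (.l 3) (.mul (.mul (.l 2) (.l 3)) (.l 2))) 2))) (.and (.one (.pow (.mul (.mul (.mul (.inv (.l 5)) (.l 4)) (.mul (.l 3) (.pow (.mul (.l 3) (.mul (.mul (.l 2) (.l 3)) (.l 2))) 2))) (.l 40)) 2)) (.eq (.pow (.mul (.mul (.l 3) (.pow (.mul (.l 3) (.mul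 (.mul (.l 2) (.l 3)) (.l 2))) 2)) (.mul (.mul (.l 40) (.mul (.l 3) (.pow (.mul (.l 3) (.mul (.mul (.l 2) (.l 3)) (.l 2))) 2))) (.l 40))) 2) (.pow (.mul (.l 3) (.mul (.mul (.l 2) (.l 3)) (.l 2))) 2)))) (.or (.eq (.l 40) (.l 2)) (.eq (.l 40) (.mul (.mul (.mul (.mul (.l 3) (.l 5)) (.l 2)) (.l 3)) (.l 5)))))))

theorem C_nt_ev : C.eval C_nt_f = true := by decide +kernel

theorem C_nt {G : Type*} [Group G] {γ : ℕ → G} {k : ℕ} {N : List W} (g : Gf C γ k N)
    (e : tyB C k N C_nt_f = true := by decide +kernel) :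
    ∀ a ∈ genW γ (C.ws 3), a * a = 1 → ((γ 5)⁻¹ * a) ^ 3 = 1 → ((γ 5)⁻¹ * γ 4 * γ 3 * a) ^ 2 = 1 ∧ (γ 3 * (a * γ 3 * a)) ^ 2 = zz γ ∨ ((γ 5)⁻¹ * γ 4 * (γ 3 * zz γ) * a) ^ 2 = 1 ∧ (γ 3 * zz γ * (a * (γ 3 * zz γ) * a)) ^ 2 = zz γ → a = γ 2 ∨ a = γ 3 * γ 5 * γ 2 * γ 3 * γ 5 :=
  g.transfer e C_nt_ev

/-- a formula -/
def C_sw1_f : Fm := .all 6 40 [(.l 4, .mul (.l 4) (.mul (.pow (.mul (.l 3) (.mul (.mul (.l 2) (.l 3)) (.l 2))) 2) (.pow (.mul (.l 4) (.mul (.mul (.l 2) (.l 3)) (.l 2))) 2))), (.l 3, .mul (.l 3) (.pow (.mul (.l 3) (.mul (.mul (.l 2) (.l 3)) (.l 2))) 2))] (.not (.tt))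

theorem C_sw1_ev : C.eval C_sw1_f = true := by decide +kernel

theorem C_sw1 {G : Type*} [Group G] {γ : ℕ → G} {k : ℕ} {N : List W} (g : Gf C γ k N)
    (e : tyB C k N C_sw1_f = true := by decide +kernel) :
    ∀ d ∈ genW γ (C.ws 6), d * γ 4 = γ 4 * (zz γ * uu γ) * d → d * γ 3 = γ 3 * zz γ * d → ¬ True :=
  g.transfer e C_sw1_ev

/-- a formula -/
def C_sw2_f : Fm := .all 6 40 [(.l 4, .mul (.l 4) (.pow (.mul (.l 4) (.mul (.mul (.l 2) (.l 3)) (.l 2))) 2)), (.l 3, .mul (.l 3) (.mul (.pow (.mul (.l 3) (.mul (.mul (.l 2) (.l 3)) (.l 2))) 2) (.pow (.mul (.l 4) (.mul (.mul (.l 2) (.l 3)) (.l 2))) 2)))] (.not (.tt))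

theorem C_sw2_ev : C.eval C_sw2_f = true := by decide +kernel

theorem C_sw2 {G : Type*} [Group G] {γ : ℕ → G} {k : ℕ} {N : List W} (g : Gf C γ k N)
    (e : tyB C k N C_sw2_f = true := by decide +kernel) :
    ∀ d ∈ genW γ (C.ws 6), d * γ 4 = γ 4 * uu γ * d → d * γ 3 = γ 3 * (zz γ * uu γ) * d → ¬ True :=
  g.transfer e C_sw2_ev

/-- a formula -/
def C_rk_f : Fm := .all 6 40 [] (.imp (.one (.mul (.l 40) (.l 40))) (.imp (.not (.mem 9 (.l 40))) (.all 6 41 [(.l 40, .l 40)] (.or (.mem 9 (.l 41)) (.mem 9 (.mul (.l 41) (.l 40)))))))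

theorem C_rk_ev : C.eval C_rk_f = true := by decide +kernel

theorem C_rk {G : Type*} [Group G] {γ : ℕ → G} {k : ℕ} {N : List W} (g : Gf C γ k N)
    (e : tyB C k N C_rk_f = true := by decide +kernel) :
    ∀ a ∈ genW γ (C.ws 6), a * a = 1 → a ∉ genW γ (C.ws 9) → ∀ b ∈ genW γ (C.ws 6), b * a = a * b → b ∈ genW γ (C.ws 9) ∨ b * a ∈ genW γ (C.ws 9) :=
  g.transfer e C_rk_ev

/-- a formula -/
def C_cV_f : Fm := .all 6 40 [(.l 4, .l 4), (.l 3, .l 3)] (.mem 9 (.l 40))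

theorem C_cV_ev : C.eval C_cV_f = true := by decide +kernel

theorem C_cV {G : Type*} [Group G] {γ : ℕ → G} {k : ℕ} {N : List W} (g : Gf C γ k N)
    (e : tyB C k N C_cV_f = true := by decide +kernel) :
    ∀ d ∈ genW γ (C.ws 6), d * γ 4 = γ 4 * d → d * γ 3 = γ 3 * d → d ∈ genW γ (C.ws 9) :=
  g.transfer e C_cV_ev

/-- the letters after an outer automorphism -/
def labS : List W := [.l 0, .l 1, .mul (.mul (.l 5) (.l 2)) (.inv (.l 5)), .mul (.mul (.mul (.mul (.mul (.l 2) (.l 3)) (.l 5)) (.l 2)) (.l 4)) (.inv (.l 5)), .mul (.mul (.l 3) (.l 4)) (.l 3), .inv (.l 5), .l 6, .l 7, .l 8]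

end Cfsg.Lib.Y12
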