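import Cfsg.Agent.Lib.Y12.B

/-! An involution with centraliser `2 × M₁₂`: the wreathed case is impossible (helper3). -/

set_option autoImplicit false
set_option maxRecDepth 100000

namespace Cfsg.Lib.Y12

open Cfsg.Lib.Calc Cfsg.Lib.Grp Cfsg.Lib.T2 Cfsg.Lib.T3 Subgroup

variable {G : Type*} [Group G] [Finite G] {γ : ℕ → G}

omit [Finite G] in
theorem comm_of_sq {A : Subgroup G} (h : ∀ x ∈ A, x * x = 1) {x y : G} (hx : x ∈ A) (hy : y ∈ A) : x * y = y * x := by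
  rw [← inv_inj, mul_inv_rev, inv_eq_of_mul_eq_one_right (h _ hx), inv_eq_of_mul_eq_one_right (h _ hy),
    inv_eq_of_mul_eq_one_right (h _ (mul_mem hy hx))]

theorem JC.rk (J : JC γ) {A : Subgroup G} {y : G} (h : ∀ x ∈ A, x * x = 1) (c : A ≤ centralizer {y}) (e : IsConj y (γ 1)) :
    ¬ 32 ≤ Nat.card A := fun n => by
  have H := J.g
  obtain ⟨k, -, b⟩ := J.syl.conj (fun x => ⟨1, Subtype.ext (by rw [pow_one, sq]; exact h _ x.2)⟩) c e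
  rw [← card_map_of_injective (MulAut.conj k).injective (f := (MulAut.conj k).toMonoidHom)] at n
  have l : A.map (MulAut.conj k).toMonoidHom ≤ genW γ (C.ws 4) := by rintro _ ⟨x, m, rfl⟩; exact b x m
  have h : ∀ x ∈ A.map (MulAut.conj k).toMonoidHom, x * x = 1 := by
    rintro _ ⟨x, m, rfl⟩; rw [← map_mul, h x m, map_one]
  generalize A.map (MulAut.conj k).toMonoidHom = A at n l h
  have c9 : Nat.card (genW γ (C.ws 9)) = 8 := H.card 9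
  have i := relIndex_mul_card (H.le : genW γ (C.ws 6) ≤ genW γ (C.ws 4))
  rw [H.card 4 (n := 128), H.card 6 (n := 64)] at i
  have j := relIndex_mul_card (inf_le_right : genW γ (C.ws 6) ⊓ A ≤ A)
  have i' := relIndex_le_of_le_right (H := genW γ (C.ws 6)) l (by omega)
  rw [inf_relIndex_right] at j
  have j' : 16 ≤ Nat.card (genW γ (C.ws 6) ⊓ A : Subgroup G) := by nlinarith
  obtain ⟨a, m, o⟩ := SetLike.not_le_iff_exists.1 fun l : genW γ (C.ws 6) ⊓ A ≤ genW γ (C.ws 9) => by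
    have := card_le_of_le l; omega
  have r := relIndex_mul_card (inf_le_right : genW γ (C.ws 9) ⊓ (genW γ (C.ws 6) ⊓ A) ≤ _)
  rw [inf_relIndex_right, show (genW γ (C.ws 9)).relIndex (genW γ (C.ws 6) ⊓ A) = 2 from index_eq_two_iff.2 ⟨⟨a, m⟩, fun b =>
    (em (b.1 ∈ genW γ (C.ws 9))).elim (fun f => Or.inr ⟨f, fun f' => o ((mul_mem_cancel_left f).1 f')⟩) fun f =>
      Or.inl ⟨((C_rk H :) a m.1 (h a m.2) o b b.2.1 (comm_of_sq h b.2.2 m.2)).resolve_left f, f⟩⟩] at r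
  have q := card_le_of_le (inf_le_left : genW γ (C.ws 9) ⊓ (genW γ (C.ws 6) ⊓ A) ≤ _)
  have u : uu γ ∈ A := ((eq_of_le_of_card_ge (inf_le_left : genW γ (C.ws 9) ⊓ (genW γ (C.ws 6) ⊓ A) ≤ _) (by omega)).ge H.mem).2.2
  rw [(inf_eq_right.2 fun x m => (C_cU H :) x ((H.le : genW γ (C.ws 4) ≤ _) (l m)) (comm_of_sq h m u) :
    genW γ (C.ws 6) ⊓ A = A)] at r q
  omega

omit [Finite G] in
theorem nj {F : Subgroup G} {k a : G} (h : k ∈ normalizer (F : Set G)) (m : a ∈ F) : k * a * k⁻¹ ∈ F := (mem_normalizer_iff.1 h a).1 m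

omit [Finite G] in
theorem nc' {F : Subgroup G} {k : G} (h : F ≤ centralizer {k}) : k ∈ normalizer (F : Set G) :=
  centralizer_le_normalizer _ (mem_centralizer_iff.2 fun _ m => cms (h m))

omit [Finite G] in
theorem cs0 {F : Subgroup G} {k d d' x x' y y' : G} (hk : k ∈ normalizer (F : Set G)) (hd : k * d * k⁻¹ = d')
    (hx : k * x * k⁻¹ = x') (hy : k * y * k⁻¹ = y') (h : d * x * d⁻¹ * y⁻¹ ∈ F) : d' * x' * d'⁻¹ * y'⁻¹ ∈ F :=
  Set.mem_of_eq_of_mem (by rw [← hd, ← hx, ← hy]; group) (nj hk h)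

omit [Finite G] in
theorem ce0 {k d x x' y y' : G} (hx : k * x * k⁻¹ = x') (hy : k * y * k⁻¹ = y') (h : d * x * d⁻¹ = y) :
    k * d * k⁻¹ * x' * (k * d * k⁻¹)⁻¹ = y' := by rw [← hx, ← hy, ← h]; group

omit [Finite G] in
theorem cc0 {F : Subgroup G} {k d : G} (hk : k ∈ normalizer (F : Set G)) (h : F ≤ centralizer {d}) :
    F ≤ centralizer {k * d * k⁻¹} := fun x m => mcs (by
  have := cms (h (nj (inv_mem hk) m))
  calc _ = k * (k⁻¹ * x * k⁻¹⁻¹ * d) * k⁻¹ := by group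
    _ = _ := by rw [this]; group)

/-- the conjugate of `d` -/
abbrev bb (γ : ℕ → G) : G := γ 6 * dd γ * (γ 6)⁻¹

namespace JW

variable (J : JW γ)
include J

theorem dr (i : ℕ) (e : i < 8 := by decide) : ((relD.take 8).getD i (.l 0)).ev γ = 1 :=
  J.rD.1 _ (by rw [List.getD_eq_getElem _ _ e]; exact List.getElem_mem _)

theorem dF : genW γ (Ws.ws 3) ≤ centralizer {dd γ} := genW_le_centralizer (rc (cmm (mul_inv_eq_one.1 (J.dr 1))).symm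
  (rc (cmm (mul_inv_eq_one.1 (J.dr 2))).symm (rc (cmm (mul_inv_eq_one.1 (J.dr 3))).symm
    (rc (cmm (mul_inv_eq_one.1 (J.dr 4))).symm nil_all))))

theorem bF : genW γ (Ws.ws 3) ≤ centralizer {bb γ} := cc0 (J.gN.nrm 3) J.dF

theorem cs {d x x' y y' : G} (hx : γ 6 * x * (γ 6)⁻¹ = x') (hy : γ 6 * y * (γ 6)⁻¹ = y')
    (h : d * x * d⁻¹ * y⁻¹ ∈ genW γ (Ws.ws 3)) : γ 6 * d * (γ 6)⁻¹ * x' * (γ 6 * d * (γ 6)⁻¹)⁻¹ * y'⁻¹ ∈ genW γ (Ws.ws 3) :=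
  cs0 (J.gN.nrm 3) rfl hx hy h

theorem dt : γ 2 * dd γ * (γ 2)⁻¹ = dd γ := cj_of (cmm (mul_inv_eq_one.1 (J.dr 6))).symm

theorem dw : dd γ * ww γ * (dd γ)⁻¹ * (ww γ)⁻¹ ∈ genW γ (Ws.ws 3) := cs0 (J.gN.nrm 3) J.dt J.g.eq J.g.eq J.rD.2

theorem ab : dd γ * bb γ * (dd γ)⁻¹ * (bb γ)⁻¹ ∈ genW γ (Ws.ws 3) := by
  have N := J.gN
  have H := J.g
  have c1 := J.rD.2
  have c2 : bb γ * γ 4 * (bb γ)⁻¹ * (γ 4)⁻¹ ∈ _ := J.cs H.eq H.eq J.dw
  have de : dd γ * γ 1 * (dd γ)⁻¹ = γ 1 * γ 4 := mul_inv_eq_one.1 (J.dr 7)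
  have dp : dd γ * γ 4 * (dd γ)⁻¹ = γ 4 := mul_inv_eq_one.1 (J.dr 5)
  have be : bb γ * γ 1 * (bb γ)⁻¹ = γ 1 * γ 3 := ce0 H.eq H.eq de
  have bv : bb γ * γ 3 * (bb γ)⁻¹ = γ 3 := ce0 H.eq H.eq dp
  have dF := J.dF
  have bF := J.bF
  generalize dd γ = d at *
  generalize bb γ = b at *
  have n : b * d ∈ normalizer (genW γ (Ws.ws 3) : Set G) := mul_mem (nc' bF) (nc' dF)
  have k : ∀ x, d * (b * x * b⁻¹) * d⁻¹ = b * (d * x * d⁻¹) * b⁻¹ → (b * d)⁻¹ * (d * b) * x = x * ((b * d)⁻¹ * (d * b)) :=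
    fun x h => by
    calc _ = (b * d)⁻¹ * (d * (b * x * b⁻¹) * d⁻¹) * (d * b) := by group
      _ = _ := by rw [h]; group
  have kF : ∀ x ∈ genW γ (Ws.ws 3), (b * d)⁻¹ * (d * b) * x = x * ((b * d)⁻¹ * (d * b)) := fun x m => k x (by
    rw [cj_of (cms (bF m)).symm, cj_of (cms (dF m)).symm, cj_of (cms (bF m)).symm])
  have kp := k (γ 4) (by rw [dp, eq_mul_of_mul_inv_eq (rfl : b * γ 4 * b⁻¹ * (γ 4)⁻¹ = _), ← conj_mul, dp, cj_of (cms (dF c2)).symm])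
  have kv := k (γ 3) (by rw [bv, eq_mul_of_mul_inv_eq (rfl : d * γ 3 * d⁻¹ * (γ 3)⁻¹ = _), ← conj_mul, bv, cj_of (cms (bF c1)).symm])
  have m : (b * d)⁻¹ * (d * b) * γ 1 * ((b * d)⁻¹ * (d * b))⁻¹ * (γ 1)⁻¹ ∈ genW γ (Ws.ws 3) := by
    have a := nj (N.nrm 3 : γ 1 ∈ _) (nj (inv_mem n) (mul_mem (mul_mem (nj (N.nrm 3 : (γ 4)⁻¹ ∈ _) (inv_mem c2))
      (N.mem : (γ 4)⁻¹ * (γ 3)⁻¹ * γ 4 * γ 3 ∈ _)) (nj (N.nrm 3 : (γ 3)⁻¹ ∈ _) c1)))
    have h1 : d * b * γ 1 * (d * b)⁻¹ = γ 1 * γ 4 * (d * γ 3 * d⁻¹) := by rw [← de, conj_mul, ← be]; group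
    have h2 : b * d * γ 1 * (b * d)⁻¹ = γ 1 * γ 3 * (b * γ 4 * b⁻¹) := by rw [← be, conj_mul, ← de]; group
    refine Set.mem_of_eq_of_mem ?_ a
    calc _ = (b * d)⁻¹ * (d * b * γ 1 * (d * b)⁻¹) * (b * d) * (γ 1)⁻¹ := by group
      _ = (b * d)⁻¹ * (γ 1 * γ 3 * (b * γ 4 * b⁻¹)) * ((b * γ 4 * b⁻¹)⁻¹ * (γ 3)⁻¹ * γ 4 * (d * γ 3 * d⁻¹)) * (b * d) * (γ 1)⁻¹ := by
        rw [h1]; group
      _ = _ := by rw [← h2]; group
  suffices (b * d)⁻¹ * (d * b) ∈ genW γ (Ws.ws 3) from Set.mem_of_eq_of_mem (by group) (nj n this)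
  generalize (b * d)⁻¹ * (d * b) = x at *
  obtain ⟨a, i, j, -⟩ := (Ws_ce N :) _ m (by
    rw [inv_mul_cancel_right, conj_mul, (H.eq : γ 1 * γ 1 = 1), mul_one, mul_inv_cancel])
  have c : ∀ {y : G}, a * y = y * a → x * y = y * x → a * x * y = y * (a * x) := fun p q => Commute.mul_left p q
  exact (mul_mem_cancel_left i).1 ((Ws_cf N :) _ (J.mB (by rw [← mul_assoc, ← j]; group) (c (N.comm i) (kF _ N.mem))
    (c (N.comm i) (kF _ N.mem))) (c (N.comm i) kp) (c (N.comm i) kv) (c (N.comm i) (kF _ N.mem)))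

theorem rQ : ∀ t ∈ relQ, t.ev (newLet γ labW) ∈ genW γ (Ws.ws 3) := by
  have H := J.g
  have o : ∀ {x : G}, x = 1 → x ∈ genW γ (Ws.ws 3) := fun h => Set.mem_of_eq_of_mem h (one_mem _)
  have t : γ 2 * bb γ * γ 2 = γ 6 * bb γ * (γ 6)⁻¹ := by
    calc _ = γ 2 * γ 6 * (γ 2)⁻¹ * (γ 2 * dd γ * (γ 2)⁻¹) * (γ 2 * (γ 6)⁻¹ * γ 2) := by group
      _ = _ := by
        rw [J.dt, (H.eq : γ 2 * γ 6 * (γ 2)⁻¹ = γ 6 * γ 6), (H.eq : γ 2 * (γ 6)⁻¹ * γ 2 = (γ 6)⁻¹ * (γ 6)⁻¹)]; group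
  refine List.forall_mem_append.2 ⟨mems_fix (by decide +kernel) J.gN.mems, rc (o (J.dr 0)) (rc (o (J.dr 6)) (rc (o (J.dr 5))
    (rc J.rD.2 (rc (o (J.dr 7)) (rc (o ?_) (rc (J.cs (x' := γ 3) (y' := γ 3) H.eq H.eq (o (J.dr 5)))
      (rc (J.cs (x' := γ 4) (y' := γ 4) H.eq H.eq J.dw) (rc (J.cs (x' := ww γ) (y' := ww γ) H.eq H.eq J.rD.2)
      (rc (J.cs (x' := γ 1) (y' := γ 1 * γ 3) H.eq H.eq (o (J.dr 7))) (rc J.ab (rc (J.cs t.symm t.symm J.ab) nil_all)))))))))))⟩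
  change bb γ * bb γ = 1
  rw [conj_mul, show dd γ * dd γ = 1 from J.dr 0, mul_one, mul_inv_cancel]

theorem big {x : G} (c : IsConj (γ 1) x) (xa : ∀ a ∈ genW γ (Ws.ws 3), x * a * x⁻¹ = γ 2 * a * (γ 2)⁻¹)
    (hp : x * γ 4 * x⁻¹ * (γ 4)⁻¹ ∈ genW γ (Ws.ws 3)) (hd : x * dd γ * x⁻¹ * (dd γ)⁻¹ ∈ genW γ (Ws.ws 3)) : False := by
  have H := J.g
  have N := J.gN
  have x2 : x * x = 1 := by
    obtain ⟨k, rfl⟩ := isConj_iff.1 c; rw [conj_mul, (H.eq : γ 1 * γ 1 = 1), mul_one, mul_inv_cancel]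
  have ex : ∀ p : G, p * p = 1 → genW γ (Ws.ws 3) ≤ centralizer {p} → x * p * x⁻¹ * p⁻¹ ∈ genW γ (Ws.ws 3) →
      ∃ a ∈ genW γ (Ws.ws 3), a * p * (a * p) = 1 ∧ a * p * x = x * (a * p) := fun p p2 cp c => by
    obtain ⟨a, i, j⟩ := (Ws_ct N :) _ c (by
      rw [← xa _ c]
      calc _ = x * x * p * (x * x)⁻¹ * p⁻¹ := by group
        _ = 1 := by rw [x2]; group)
    refine ⟨a, i, by rw [mul_assoc, ← mul_assoc p, ← cms (cp i), mul_assoc, p2, mul_one, ((Ws_sq N :) a i).1], (cmm ?_).symm⟩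
    have := ((Ws_sq N :) _ c).1
    calc _ = x * a * x⁻¹ * (x * p * x⁻¹ * p⁻¹) * p := by rw [MulAut.conj_apply]; group
      _ = _ := by rw [xa a i, j, mul_assoc a, this, mul_one]
  obtain ⟨a, m, a2, ax⟩ := ex _ H.eq N.cen hp
  obtain ⟨b, n, b2, bx⟩ := ex _ (J.dr 0) J.dF hd
  have dp : Commute (γ 4) (dd γ) := (cmm (mul_inv_eq_one.1 (J.dr 5))).symm
  have k : ∀ {y a p : G}, y ∈ genW γ (Ws.ws 3) → a ∈ genW γ (Ws.ws 3) → genW γ (Ws.ws 3) ≤ centralizer {p} →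
      zpowers y ≤ centralizer {a * p} := fun i j l =>
    zpowers_le.2 (mcs (Commute.mul_right (((Ws_sq N :) _ i).2 _ j) (cms (l i))))
  have s1 := sq_sup (A := ⊥) (a := zz γ) (fun _ h => by rw [mem_bot.1 h, mul_one]) H.eq bot_le
  have s2 := sq_sup s1 J.f2 (sup_le bot_le (zpowers_le.2 (mcs N.eq)))
  have s3 := sq_sup s2 a2 (sup_le (sup_le bot_le (k N.mem m N.cen)) (k N.mem m N.cen))
  have s4 := sq_sup s3 b2 (sup_le (sup_le (sup_le bot_le (k N.mem n J.dF)) (k N.mem n J.dF)) (zpowers_le.2 (mcs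
    (Commute.mul_left (cms (k m n J.dF (mem_zpowers _))) (Commute.mul_right (Eq.symm (N.comm n)) dp)))))
  have cx : ⊥ ⊔ zpowers (zz γ) ⊔ zpowers (γ 7) ⊔ zpowers (a * γ 4) ⊔ zpowers (b * dd γ) ≤ centralizer {x} :=
    sup_le (sup_le (sup_le (sup_le bot_le (zpowers_le.2 (mcs (cmm ((xa _ N.mem).trans N.eq)).symm)))
      (zpowers_le.2 (mcs (cmm ((xa _ N.mem).trans N.eq)).symm))) (zpowers_le.2 (mcs ax))) (zpowers_le.2 (mcs bx))
  have l : genW γ (Ws.ws 3) ≤ normalizer (genW γ (Ws.ws 4) : Set G) := (N.le (j := 4)).trans le_normalizer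
  refine J.rk (sq_sup s4 x2 cx) (sup_le cx (zpowers_le.2 (mcs rfl))) c.symm (card_sup (n := 16) (H := centralizer {uu γ})
    (card_sup (n := 8) (H := normalizer (genW γ (Ws.ws 4) : Set G)) (card_sup (n := 4) (H := genW γ (Ws.ws 3))
      (card_sup (n := 2) (H := centralizer {γ 1}) (card_sup (n := 1) card_bot.ge le_rfl (mt mem_bot.1 H.ne))
        (sup_le bot_le (zpowers_le.2 (mcs H.eq))) (mt cms N.ne))
      (sup_le (sup_le bot_le (zpowers_le.2 N.mem)) (zpowers_le.2 N.mem)) (mt (mul_mem_cancel_left m).1 N.nmem))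
    (sup_le (sup_le (sup_le bot_le (zpowers_le.2 (N.nrm 4))) (zpowers_le.2 (N.nrm 4))) (zpowers_le.2 (mul_mem (l m) (N.nrm 4))))
    fun e => (N.nmem : γ 1 * γ 4 ∉ _) (Set.mem_of_eq_of_mem (mul_inv_eq_one.1 (J.dr 7)).symm
      (nj ((mul_mem_cancel_left (l n)).1 e) (N.mem (x := γ 1)))))
    (sup_le (sup_le (sup_le (sup_le bot_le (zpowers_le.2 (mcs H.eq))) (zpowers_le.2 (mcs N.eq)))
      (zpowers_le.2 (mul_mem (mcs (N.comm m)) (mcs H.eq)))) (zpowers_le.2 (mul_mem (mcs (N.comm n)) (mcs (cmm (mul_inv_eq_one.1 (J.dr 2)))))))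
    fun e => (H.ne : γ 2 * uu γ * (γ 2)⁻¹ ≠ uu γ) ((xa _ N.mem).symm.trans (cj_of (cms e))))

theorem false (hN : ∀ φ : G →* ℤˣ, φ (γ 1) = 1) : False := by
  have H := J.g
  have N := J.gN
  have z : newLet γ labW 0 = 1 := H.zero
  have h : ∀ c, newLet γ labW c ∈ normalizer (genW γ (Ws.ws 3) : Set G) := fun c => (genW_le.2 (rc (N.nrm 3) (rc (N.nrm 3)
    (rc (N.nrm 3) (rc (N.nrm 3) (rc (nc' J.dF) (rc (nc' J.bF) (rc (N.nrm 3) (rc (N.nrm 3) nil_all)))))))) : genW γ labW.tail ≤ _)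
      (T2.newLet_mem H.zero (by decide +kernel) c)
  have Q : Gf Wq (qd _ h) 0 [] := gf_of_cen Wq_ok (qd_zero h z) (m := 8) tcQ_tb (qd_rels h J.rQ)
    [.l 4, .mul (.l 3) (.mul (.mul (.l 2) (.l 3)) (.l 2)), .mul (.mul (.l 4) (.l 3)) (.mul (.mul (.l 2) (.l 3)) (.l 2))]
    (rc (mt (qd_one h).1 (N.nmem (x := γ 4))) (rc (mt (qd_one h).1 (N.nmem (x := γ 3 * ww γ)))
      (rc (mt (qd_one h).1 (N.nmem (x := γ 4 * γ 3 * ww γ))) nil_all)))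
  have l : ∀ {j}, (Ws.ws 3).all (W.overW (Wq.ws j)) = true → genW γ (Ws.ws 3) ≤ genW (newLet γ labW) (Wq.ws j) := fun e =>
    (genW_fix (by decide +kernel)).ge.trans (ov_le z e)
  have l0 := l (j := 0) (by decide +kernel)
  have l1 := l (j := 1) (by decide +kernel)
  have le : genW (newLet γ labW) (Wq.ws 1) ≤ genW (newLet γ labW) (Wq.ws 0) := ov_le z
  have cF : Nat.card (genW γ (Ws.ws 3)) = 16 := N.card 3
  have e2 : γ 1 * γ 1 = 1 := H.eq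
  have a := tr_one hN e2 le (by
    have := relIndex_mul_card le
    rw [qd_card h l0, qd_card h l1, Q.card 0 (n := 256), Q.card 1 (n := 128), cF] at this
    omega) (mem_genW _ (t := .l 1) List.mem_cons_self) (mt (qd_mem h (y := ⟨_, h 1⟩)) (Q.nmem (x := qd _ h 1))) fun x c m n => by
    have my : x ∈ normalizer (genW γ (Ws.ws 3) : Set G) := (genW_le.2 fun t _ => ev_mem_of_forall h t) m
    have x2 : x * x = 1 := by obtain ⟨k, rfl⟩ := isConj_iff.1 c; rw [conj_mul, e2, mul_one, mul_inv_cancel]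
    rcases (Wq_c Q :) _ (qd_mem h (y := ⟨x, my⟩) m) (by rw [← map_mul, show (⟨x, my⟩ * ⟨x, my⟩ : normalizer _) = 1 from
      Subtype.ext x2, map_one]) (mt (qd_mem_iff h l1).1 n) with ⟨k, i, j, -⟩ | ⟨i, j1, j2⟩
    · obtain ⟨k, i', rfl⟩ := qd_lift h i
      obtain ⟨a, p, q, -⟩ := (Ws_ce N :) (k * x * k.1⁻¹ * (γ 1)⁻¹) (Set.mem_of_eq_of_mem (by simp [mul_assoc]; rfl)
        (mk_eq.1 ((map_mul _ _ _).trans (j.trans (map_mul _ (subLet h 1) _).symm))))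
        (by rw [inv_mul_cancel_right, conj_mul, x2, mul_one, mul_inv_cancel])
      refine ⟨(a * k)⁻¹, inv_mem (mul_mem (l0 p) i'), ?_⟩
      calc _ = k.1⁻¹ * (a⁻¹ * (γ 1 * a)) * k := by group
        _ = _ := by rw [← q]; group
    obtain ⟨y, i, j⟩ := qd_lift h i
    have cy : genW (newLet γ labW) (Wq.ws 2) ≤ centralizer (genW γ (Ws.ws 3) : Set G) := by
      have k : ∀ {y : G}, genW γ (Ws.ws 3) ≤ centralizer {y} → y ∈ centralizer (genW γ (Ws.ws 3) : Set G) := fun e =>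
        mem_centralizer_iff.2 fun _ m => cms (e m)
      exact genW_le.2 (rc (k (N.cen (x := γ 3))) (rc (k (N.cen (x := γ 4))) (rc (k (N.cen (x := ww γ))) (rc (k J.dF) (rc (k J.bF)
        (rc (k (show _ ≤ centralizer {γ 2 * bb γ * γ 2} by
          simpa only [(H.eq : (γ 2)⁻¹ = γ 2)] using cc0 (N.nrm 3 : γ 2 ∈ _) J.bF))
        (rc (k (N.cen (x := γ 7))) (rc (k (N.cen (x := γ 8))) nil_all))))))))
    have xa : ∀ a ∈ genW γ (Ws.ws 3), x * a * x⁻¹ = γ 2 * a * (γ 2)⁻¹ := fun a m => by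
      have p : y.1 * (γ 2 * x)⁻¹ ∈ _ := mk_eq.1 (j.trans (map_mul _ (subLet h 2) _).symm)
      have q := cj_of (((Ws_sq N :) _ (inv_mem p)).2 a m)
      rw [← cj_of (cy i a m).symm] at q
      calc _ = (γ 2)⁻¹ * (((y.1 * (γ 2 * x)⁻¹)⁻¹ * (y * a * y.1⁻¹) * (y.1 * (γ 2 * x)⁻¹)⁻¹⁻¹)) * (γ 2)⁻¹⁻¹ := by group
        _ = _ := by rw [q, cj_of (cy i a m).symm, (H.eq : (γ 2)⁻¹ = γ 2), (H.eq : (γ 2)⁻¹ = γ 2)]
    have k : ∀ {a : G}, x * a * (a * x)⁻¹ ∈ genW γ (Ws.ws 3) → x * a * x⁻¹ * a⁻¹ ∈ genW γ (Ws.ws 3) := fun h =>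
      Set.mem_of_eq_of_mem (by group) h
    exact (J.big c xa (k (mk_eq.1 ((map_mul _ _ (subLet h 4)).trans (j1.trans (map_mul _ (subLet h 4) _).symm))))
      (k (mk_eq.1 ((map_mul _ _ (subLet h 5)).trans (j2.trans (map_mul _ (subLet h 5) _).symm))))).elim
  have b : 128 ∣ Nat.card (genW (newLet γ labW) (Wq.ws 0) ⊓ centralizer {γ 1} : Subgroup G) := H.card 4 (n := 128) ▸
    card_dvd_of_le (le_inf ((genW_fix (by decide +kernel)).ge.trans (ov_le z)) H.cen)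
  exact absurd (J.cardC ▸ (Nat.mul_dvd_mul_left 2 b).trans a) (by decide)

end JW

end Cfsg.Lib.Y12
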